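import Mathlib
import Cfsg.Agent.DihSyl.SixA6

/-!
# A recognition lemma for `S₆`
-/

set_option autoImplicit false
set_option linter.style.haveILetI false
set_option linter.unusedSectionVars false

namespace Cfsg.Agent.Tri3

open Subgroup Equiv

universe u

theorem sym6_of {G : Type u} [Group G] [Finite G] {N : Subgroup G} (hidx : N.index = 2)
    (e : N ≃* alternatingGroup (Fin 6)) (hcen : Subgroup.centralizer (N : Set G) = ⊥) {t c : G} (ht : t ∉ N)
    (hc : c ∈ N) (hc3 : orderOf c = 3) (htc : t * c = c * t) : Nonempty (G ≃* Equiv.Perm (Fin 6)) := by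
  haveI hNn : N.Normal := Subgroup.normal_of_index_eq_two hidx
  have hN : Nat.card N = 360 := by
    rw [Nat.card_congr e.toEquiv]
    have h5 := two_mul_nat_card_alternatingGroup (α := Fin 6)
    rw [Nat.card_perm, Nat.card_fin] at h5
    have h6 : (6 : ℕ).factorial = 720 := by decide
    omega
  have hG : Nat.card G = 720 := by
    have h1 := Subgroup.card_mul_index N
    rw [hidx, hN] at h1
    omega
  set f : G →* MulAut (alternatingGroup (Fin 6)) :=
    (MulAut.congr e).toMonoidHom.comp MulAut.conjNormal with hf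
  have hfe : ∀ (x : G) (a : alternatingGroup (Fin 6)), f x a = e (MulAut.conjNormal x (e.symm a)) := by
    intro x a; rfl
  -- injectivity
  have hinj : Function.Injective f := by
    rw [injective_iff_map_eq_one]
    intro x hx
    have h1 : ∀ n : N, x * n * x⁻¹ = n := by
      intro n
      have h2 := congrArg (fun (m : MulAut (alternatingGroup (Fin 6))) => e.symm (m (e n))) hx
      simp only [hfe, MulEquiv.symm_apply_apply, MulAut.one_apply] at h2
      rw [← MulAut.conjNormal_apply, h2]
    have h3 : x ∈ Subgroup.centralizer (N : Set G) := by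
      rw [Subgroup.mem_centralizer_iff]
      intro n hn
      exact (mul_inv_eq_iff_eq_mul.1 (h1 ⟨n, hn⟩)).symm
    rw [hcen, mem_bot] at h3
    exact h3
  -- three-cycles
  have hN3 : ∀ x ∈ N, ∀ a : alternatingGroup (Fin 6), (a : Perm (Fin 6)).IsThreeCycle →
      (f x a : Perm (Fin 6)).IsThreeCycle := by
    intro x hx a ha
    have h1 : f x a = e ⟨x, hx⟩ * a * (e ⟨x, hx⟩)⁻¹ := by
      rw [hfe]
      have h2 : MulAut.conjNormal x (e.symm a) = ⟨x, hx⟩ * e.symm a * (⟨x, hx⟩ : N)⁻¹ := by
        apply Subtype.ext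
        rw [MulAut.conjNormal_apply]
        rfl
      rw [h2, map_mul, map_mul, map_inv, MulEquiv.apply_symm_apply]
    rw [h1]
    show ((e ⟨x, hx⟩ : Perm (Fin 6)) * a * (e ⟨x, hx⟩ : Perm (Fin 6))⁻¹).cycleType = {3}
    rw [Perm.cycleType_conj]
    exact ha
  have ht3 : ∀ a : alternatingGroup (Fin 6), (a : Perm (Fin 6)).IsThreeCycle →
      (f t a : Perm (Fin 6)).IsThreeCycle := by
    apply DihSyl.Six.threeCycle_of_fix (c := e ⟨c, hc⟩)
    · rw [MulEquiv.orderOf_eq, ← Subgroup.orderOf_coe]; exact hc3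
    · rw [hfe, MulEquiv.symm_apply_apply]
      congr 1
      apply Subtype.ext
      rw [MulAut.conjNormal_apply]
      show t * c * t⁻¹ = c
      rw [htc, mul_inv_cancel_right]
  have hall : ∀ x : G, ∀ a : alternatingGroup (Fin 6), (a : Perm (Fin 6)).IsThreeCycle →
      (f x a : Perm (Fin 6)).IsThreeCycle := by
    intro x a ha
    by_cases hx : x ∈ N
    · exact hN3 x hx a ha
    · have h4 : t⁻¹ * x ∈ N := (Subgroup.mul_mem_iff_of_index_two hidx).2
        ⟨fun h5 => absurd ((inv_mem_iff).1 h5) ht, fun h5 => absurd h5 hx⟩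
      have h5 : x = t * (t⁻¹ * x) := by rw [mul_inv_cancel_left]
      rw [h5, map_mul]
      exact ht3 _ (hN3 _ h4 a ha)
  have hrange : f.range ≤ (MulAut.conjNormal : Perm (Fin 6) →* MulAut (alternatingGroup (Fin 6))).range := by
    rintro _ ⟨x, rfl⟩
    obtain ⟨τ, hτ⟩ := AutAlt.exists_conj (by decide) (f x) (hall x)
    refine ⟨τ, ?_⟩
    ext g : 2
    rw [MulAut.conjNormal_apply, hτ g]
  have hcinj : Function.Injective (MulAut.conjNormal : Perm (Fin 6) →* MulAut (alternatingGroup (Fin 6))) :=
    AutAlt.conjNormal_injective (by decide)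
  have hcard1 : Nat.card f.range = 720 := by
    rw [← Nat.card_congr (MonoidHom.ofInjective hinj).toEquiv, hG]
  have hcard2 : Nat.card (MulAut.conjNormal : Perm (Fin 6) →* MulAut (alternatingGroup (Fin 6))).range = 720 := by
    rw [← Nat.card_congr (MonoidHom.ofInjective hcinj).toEquiv, Nat.card_perm, Nat.card_fin]
    decide
  have heq := Subgroup.eq_of_le_of_card_ge hrange (by rw [hcard1, hcard2])
  exact ⟨((MonoidHom.ofInjective hinj).trans (MulEquiv.subgroupCongr heq)).trans
    (MonoidHom.ofInjective hcinj).symm⟩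

end Cfsg.Agent.Tri3
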