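import Cfsg.Agent.Tri3.Nine.Main
import Cfsg.Agent.Tri3.Nine.Sym6
import Cfsg.Agent.H21.Simple360

/-!
# Groups with `3² : D₈`: the final identification
-/

set_option autoImplicit false
set_option linter.unusedSectionVars false
set_option maxHeartbeats 1000000

open scoped ComplexConjugate commutatorElement Pointwise
open Cfsg Cfsg.Agent.CharBase Cfsg.Agent.Char Cfsg.Agent.Char.GD

namespace Cfsg.Agent.Tri3

theorem fact_720 : (720 : ℕ).factorization 3 = 2 := by
  rw [show (720 : ℕ) = 3 ^ 2 * 80 by norm_num, Nat.factorization_mul (by norm_num) (by norm_num),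
    Nat.prime_three.factorization_pow, Finsupp.add_apply, Finsupp.single_eq_same,
    Nat.factorization_eq_zero_of_not_dvd (show ¬ 3 ∣ 80 by norm_num)]

theorem key_span : ∀ w' : A2, w' ≠ 0 → ∀ v : A2, ∃ a b : Fin 3, v = (a : ℕ) • w' + (b : ℕ) • sgD (.r 1) w' := by
  decide

theorem key_sr : ∀ w : A2, w ≠ 0 → sgD (.sr 2) w ≠ 0 := by decide

section

variable {G : Type*} [Group G] [Finite G] {H : Subgroup G} (D : D9 H)

theorem D9.card_range : Nat.card D.φ.range = 9 := by
  rw [← Nat.card_congr (MonoidHom.ofInjective D.inj).toEquiv]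
  change Nat.card A2 = 9
  exact card_A2

/-- elements commuting with all `f v` -/
theorem D9.mem_of_comm {g : G} (hg : ∀ v, g * D.f v = D.f v * g) : ∃ u, g = D.f u := by
  have h1 : g ∈ H := D.cen' (v := (1, 0)) (by decide) (hg _)
  obtain ⟨u, k, rfl⟩ := D.ex g h1
  have h2 : ∀ v, sgD k v = v := by
    intro v
    have h3 := hg v
    apply D.f_inj
    rw [← D.Ef]
    change D.φ (Multiplicative.ofAdd u) * D.e k * D.f v = D.f v * (D.φ (Multiplicative.ofAdd u) * D.e k) at h3
    rw [D.e_eq] at h3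
    change D.f u * D.E k * D.f v = D.f v * (D.f u * D.E k) at h3
    rw [← mul_assoc, D.f_comm v u, mul_assoc, mul_assoc] at h3
    rw [mul_left_cancel h3]; group
  have h4 : k = 1 := by
    apply D.sg_inj
    intro v
    rw [h2 v]
    revert v; decide
  refine ⟨u, ?_⟩
  rw [h4, D.e_eq, map_one, mul_one]
  rfl

/-- a free action count -/
theorem semireg_card {S N : Subgroup G} (hn : ∀ s ∈ S, ∀ x ∈ N, s * x * s⁻¹ ∈ N)
    (hf : ∀ s ∈ S, s ≠ 1 → ∀ x ∈ N, s * x = x * s → x = 1) :
    ∃ k : ℕ, Nat.card N = Nat.card S * k + 1 ∧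
      (k = 1 → ∀ x ∈ N, x ≠ 1 → ∀ y ∈ N, y ≠ 1 → ∃ s ∈ S, s * x * s⁻¹ = y) := by
  classical
  let A : MulAction S {x : N // x ≠ 1} :=
    { smul := fun s x => ⟨⟨s * x.1 * (s : G)⁻¹, hn s s.2 x.1 x.1.2⟩, fun h => x.2 (by
        have h1 : (s : G) * x.1 * (s : G)⁻¹ = 1 := congrArg Subtype.val h
        apply Subtype.ext
        have h2 : ((x.1 : N) : G) = (s : G)⁻¹ * ((s : G) * x.1 * (s : G)⁻¹) * s := by group
        rw [h2, h1]; simp)⟩
      one_smul := fun x => Subtype.ext (Subtype.ext (by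
        change (((1 : S) : G)) * x.1 * (((1 : S) : G))⁻¹ = x.1
        simp))
      mul_smul := fun s t x => Subtype.ext (Subtype.ext (by
        change (((s * t : S) : G)) * x.1 * (((s * t : S) : G))⁻¹ = s * (t * x.1 * (t : G)⁻¹) * (s : G)⁻¹
        rw [Subgroup.coe_mul]; group)) }
  have hfree : ∀ x : {x : N // x ≠ 1}, MulAction.stabilizer S x = ⊥ := by
    intro x
    rw [eq_bot_iff]
    intro s hs
    rw [MulAction.mem_stabilizer_iff] at hs
    have h1 : (s : G) * x.1 * (s : G)⁻¹ = x.1 := congrArg (fun z : {x : N // x ≠ 1} => ((z : N) : G)) hs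
    rw [Subgroup.mem_bot]
    by_contra h2
    apply x.2
    apply Subtype.ext
    exact hf s s.2 (fun h => h2 (Subtype.ext h)) x.1 x.1.2 (mul_inv_eq_iff_eq_mul.1 h1)
  have e := MulAction.selfEquivOrbitsQuotientProd hfree
  have hc := Nat.card_congr e
  rw [Nat.card_prod] at hc
  have hN : Nat.card N = Nat.card {x : N // x ≠ 1} + 1 := by
    have := Fintype.ofFinite N
    rw [Nat.card_eq_fintype_card, Nat.card_eq_fintype_card, Fintype.card_subtype_compl]
    simp only [Fintype.card_subtype_eq]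
    have : 0 < Fintype.card N := Fintype.card_pos
    omega
  refine ⟨Nat.card (Quotient (MulAction.orbitRel S {x : N // x ≠ 1})), by rw [hN, hc, mul_comm], ?_⟩
  intro hk x hx hx1 y hy hy1
  have h1 : Subsingleton (Quotient (MulAction.orbitRel S {x : N // x ≠ 1})) := (Nat.card_eq_one_iff_unique.1 hk).1
  let x' : {x : N // x ≠ 1} := ⟨⟨x, hx⟩, fun h => hx1 (congrArg Subtype.val h)⟩
  let y' : {x : N // x ≠ 1} := ⟨⟨y, hy⟩, fun h => hy1 (congrArg Subtype.val h)⟩
  have h2 : (Quotient.mk'' y' : Quotient (MulAction.orbitRel S {x : N // x ≠ 1})) = Quotient.mk'' x' :=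
    Subsingleton.elim _ _
  have h3 := Quotient.eq''.1 h2
  rw [MulAction.orbitRel_apply] at h3
  obtain ⟨s, hs⟩ := h3
  refine ⟨s, s.2, ?_⟩
  exact congrArg (fun z : {x : N // x ≠ 1} => ((z : N) : G)) hs

end

section

variable {G : Type*} [Group G] [Finite G] {H : Subgroup G} {D : D9 H} {G0 : Subgroup G} (hG : Nat.card G = 720)
  (h2 : G0.index = 2) (hf : ∀ v, D.f v ∈ G0) (ht : D.t ∉ G0) (hs : D.s ∉ G0)

include h2 ht in
theorem mem_or {g : G} : g ∈ G0 ∨ D.t * g ∈ G0 := by
  by_cases hg : g ∈ G0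
  · exact Or.inl hg
  · right
    exact (Subgroup.mul_mem_iff_of_index_two h2).2 ⟨fun h5 => absurd h5 ht, fun h5 => absurd h5 hg⟩

include h2 ht hs in
theorem r1_mem : D.E (.r 1) ∈ G0 := by
  have : D.E (.r 1) = D.t * D.s := by
    unfold D9.t D9.s; rw [← map_mul]; congr 1
  rw [this]
  exact (Subgroup.mul_mem_iff_of_index_two h2).2 ⟨fun h5 => absurd h5 ht, fun h5 => absurd h5 hs⟩

include h2 ht hs in
theorem ri_mem (i : ZMod 4) : D.E (.r i) ∈ G0 := by
  have : D.E (.r i) = D.E (.r 1) ^ i.val := by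
    rw [← map_pow, DihedralGroup.r_one_pow, ZMod.natCast_zmod_val]
  rw [this]
  exact G0.pow_mem (r1_mem h2 ht hs) _

include h2 ht hs in
theorem sri_notMem (i : ZMod 4) : D.E (.sr i) ∉ G0 := by
  have : D.E (.sr i) = D.t * D.E (.r (i - 2)) := by
    unfold D9.t
    rw [← map_mul, DihedralGroup.sr_mul_r, add_sub_cancel]
  rw [this, Subgroup.mul_mem_iff_of_index_two h2]
  intro h
  exact ht (h.2 (ri_mem h2 ht hs _))

/-- The centralizer of `G0` is trivial. -/
theorem centralizer_G0 (hf : ∀ v, D.f v ∈ G0) (hr : D.E (.r 1) ∈ G0) : Subgroup.centralizer (G0 : Set G) = ⊥ := by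
  rw [eq_bot_iff]
  intro g hg
  rw [Subgroup.mem_centralizer_iff] at hg
  obtain ⟨u, rfl⟩ := D.mem_of_comm fun v => (hg _ (hf v)).symm
  have h1 := hg _ hr
  have h3 : sgD (.r 1) u = u := by
    apply D.f_inj
    rw [← D.Ef, h1]; group
  have h4 : ∀ u : A2, sgD (.r 1) u = u → u = 0 := by decide
  rw [h4 u h3, D.f_zero]
  exact Subgroup.mem_bot.2 rfl

include h2 hf ht hs in
/-- the centralizer in `G0` of `f v` is `S` -/
theorem mem_of_comm_G0 {g : G} (hg : g ∈ G0) {v : A2} (hv : v ≠ 0) (hgv : g * D.f v = D.f v * g) :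
    ∃ u, g = D.f u := by
  have h1 : g ∈ H := D.cen' hv hgv
  obtain ⟨u, k, rfl⟩ := D.ex g h1
  have h3 : sgD k v = v := by
    apply D.f_inj
    rw [← D.Ef]
    change D.φ (Multiplicative.ofAdd u) * D.e k * D.f v = D.f v * (D.φ (Multiplicative.ofAdd u) * D.e k) at hgv
    rw [D.e_eq] at hgv
    change D.f u * D.E k * D.f v = D.f v * (D.f u * D.E k) at hgv
    rw [← mul_assoc, D.f_comm v u, mul_assoc, mul_assoc] at hgv
    rw [mul_left_cancel hgv]; group
  rcases k with i | i
  · have h4 : ∀ (i : ZMod 4) (v : A2), v ≠ 0 → sgD (.r i) v = v → i = 0 := by decide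
    have h5 := h4 i v hv h3
    subst h5
    refine ⟨u, ?_⟩
    rw [D.e_eq]
    have : (DihedralGroup.r 0 : DihedralGroup 4) = 1 := rfl
    rw [this, map_one, mul_one]
    rfl
  · exfalso
    apply sri_notMem h2 ht hs i
    rw [D.e_eq] at hg
    exact (Subgroup.mul_mem_cancel_left G0 (hf u)).1 hg

include hG h2 hf ht hs in
/-- a nontrivial subgroup of `G0` normalized by `G0` contains `S` -/
theorem lemmaA {N : Subgroup G} (hN : N ≤ G0) (hn : ∀ g ∈ G0, ∀ x ∈ N, g * x * g⁻¹ ∈ N) (hN1 : N ≠ ⊥) (v : A2) :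
    D.f v ∈ N := by
  have hG0 : Nat.card G0 = 360 := by
    have := Subgroup.card_mul_index G0
    rw [h2, hG] at this
    omega
  have h360 : Nat.card N ∣ 360 := by rw [← hG0]; exact Subgroup.card_dvd_of_le hN
  by_cases h3 : 3 ∣ Nat.card N
  · -- an element of order three
    have : Fact (Nat.Prime 3) := ⟨by norm_num⟩
    obtain ⟨x, hx⟩ := exists_prime_orderOf_dvd_card' (G := N) 3 h3
    have hx3 : (x : G) ^ 3 = 1 := by
      have : x ^ 3 = 1 := by rw [← hx]; exact pow_orderOf_eq_one x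
      exact_mod_cast congrArg Subtype.val this
    have hx1 : (x : G) ≠ 1 := by
      intro h
      have : x = 1 := Subtype.ext h
      rw [this, orderOf_one] at hx
      omega
    -- conjugate into `S`
    obtain ⟨g, w, hw⟩ : ∃ (g : G) (w : A2), g * x * g⁻¹ = D.f w := by
      have hP : IsPGroup 3 (Subgroup.zpowers (x : G)) := by
        apply IsPGroup.of_card (n := 1)
        rw [Nat.card_zpowers, orderOf_eq_prime hx3 hx1, pow_one]
      obtain ⟨P, hP⟩ := hP.exists_le_sylow
      have hS : ∃ Q : Sylow 3 G, (Q : Subgroup G) = D.φ.range := by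
        have h9 : Nat.card D.φ.range = 3 ^ (Nat.card G).factorization 3 := by
          rw [D.card_range, hG]
          rw [fact_720]
          norm_num
        exact ⟨Sylow.ofCard _ h9, rfl⟩
      obtain ⟨Q, hQ⟩ := hS
      obtain ⟨g, hg⟩ := MulAction.exists_smul_eq G P Q
      have h5 : g * x * g⁻¹ ∈ (Q : Subgroup G) := by
        rw [← hg]
        change g * x * g⁻¹ ∈ MulAut.conj g • (P : Subgroup G)
        rw [Subgroup.mem_pointwise_smul_iff_inv_smul_mem]
        have : (MulAut.conj g)⁻¹ • (g * (x : G) * g⁻¹) = x := by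
          rw [MulAut.smul_def, MulAut.conj_inv_apply]; group
        rw [this]
        exact hP (Subgroup.mem_zpowers _)
      rw [hQ] at h5
      obtain ⟨w, hw⟩ := h5
      exact ⟨g, w.toAdd, hw.symm⟩
    have hw0 : w ≠ 0 := by
      rintro rfl
      rw [D.f_zero] at hw
      apply hx1
      have : (x : G) = g⁻¹ * (g * x * g⁻¹) * g := by group
      rw [this, hw]; simp
    obtain ⟨w', hw'0, hw'⟩ : ∃ w' : A2, w' ≠ 0 ∧ D.f w' ∈ N := by
      rcases mem_or h2 ht (g := g) with hg | hg
      · exact ⟨w, hw0, by rw [← hw]; exact hn g hg x x.2⟩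
      · refine ⟨sgD (.sr 2) w, key_sr w hw0, ?_⟩
        · rw [← D.Ef, ← hw]
          have : D.E (.sr 2) * (g * x * g⁻¹) * (D.E (.sr 2))⁻¹ = (D.t * g) * x * (D.t * g)⁻¹ := by
            unfold D9.t; group
          rw [this]
          exact hn _ hg x x.2
    have hw2 : D.f (sgD (.r 1) w') ∈ N := by
      rw [← D.Ef]
      exact hn _ (r1_mem h2 ht hs) _ hw'
    obtain ⟨a, b, rfl⟩ := key_span w' hw'0 v
    have hfn : ∀ (n : ℕ) (u : A2), D.f (n • u) = D.f u ^ n := by
      intro n u
      induction n with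
      | zero => rw [zero_smul, D.f_zero, pow_zero]
      | succ n ih => rw [succ_nsmul, D.f_add, ih, pow_succ]
    rw [D.f_add, hfn, hfn]
    exact N.mul_mem (N.pow_mem hw' _) (N.pow_mem hw2 _)
  · exfalso
    obtain ⟨k, hk, hk1⟩ := semireg_card (S := D.φ.range) (N := N)
      (by
        rintro s ⟨v, rfl⟩ x hx
        exact hn _ (hf v.toAdd) x hx)
      (by
        rintro s ⟨v, rfl⟩ hs1 x hx hsx
        have hv : v.toAdd ≠ 0 := by
          intro h
          apply hs1
          have : v = 1 := Multiplicative.toAdd.injective h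
          rw [this, map_one]
        obtain ⟨u, hu⟩ := mem_of_comm_G0 h2 hf ht hs (hN hx) hv hsx.symm
        -- order divides 3
        have hx3 : x ^ 3 = 1 := by rw [hu]; exact D.f_cube u
        by_contra hx1
        apply h3
        have h4 : orderOf x = 3 := by
          have : Fact (Nat.Prime 3) := ⟨by norm_num⟩
          exact orderOf_eq_prime hx3 hx1
        rw [← h4]
        have : orderOf x = orderOf (⟨x, hx⟩ : N) := (Subgroup.orderOf_mk x hx).symm
        rw [this]
        exact orderOf_dvd_natCard _)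
    rw [D.card_range] at hk
    have hk2 : k = 0 ∨ k = 1 := by
      have h40 : Nat.card N ∣ 40 := by
        have h9 : Nat.Coprime (Nat.card N) 9 := by
          rw [show (9 : ℕ) = 3 ^ 2 by norm_num]
          apply Nat.Coprime.pow_right
          exact ((Nat.prime_three.coprime_iff_not_dvd).2 h3).symm
        exact h9.dvd_of_dvd_mul_left (by rw [show 9 * 40 = 360 by norm_num]; exact h360)
      rw [hk] at h40
      have h41 := Nat.le_of_dvd (by norm_num) h40
      have h42 : k ≤ 4 := by omega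
      interval_cases k <;> simp_all
    rcases hk2 with rfl | rfl
    · apply hN1
      exact Subgroup.card_eq_one.1 (by omega)
    · have h10 : Nat.card N = 10 := by omega
      have : Fact (Nat.Prime 2) := ⟨Nat.prime_two⟩
      have : Fact (Nat.Prime 5) := ⟨by norm_num⟩
      obtain ⟨x, hx⟩ := exists_prime_orderOf_dvd_card' (G := N) 2 (by rw [h10]; norm_num)
      obtain ⟨y, hy⟩ := exists_prime_orderOf_dvd_card' (G := N) 5 (by rw [h10]; norm_num)
      obtain ⟨s, -, hs⟩ := hk1 rfl x x.2 (by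
        intro h
        have : x = 1 := Subtype.ext h
        rw [this, orderOf_one] at hx; omega) y y.2 (by
        intro h
        have : y = 1 := Subtype.ext h
        rw [this, orderOf_one] at hy; omega)
      have h5 : orderOf (s * (x : G) * s⁻¹) = orderOf (x : G) := by
        have := MulEquiv.orderOf_eq (MulAut.conj s) (x : G)
        rw [MulAut.conj_apply] at this
        exact this
      rw [hs, Subgroup.orderOf_coe, Subgroup.orderOf_coe, hx, hy] at h5
      omega

include h2 hf ht hs in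
/-- a subgroup of `G0` normalized by `G0` and containing `S` is `G0` -/
theorem lemmaB (hFr : ∀ N : Subgroup G, N.Normal → D.φ.range ≤ N → H ⊔ N = ⊤) (hr : D.E (.r 1) ∈ commutator G)
    {N : Subgroup G} (hN : N ≤ G0) (hn : ∀ g ∈ G0, ∀ x ∈ N, g * x * g⁻¹ ∈ N) (hSN : ∀ v, D.f v ∈ N) : N = G0 := by
  set M : Subgroup G := N ⊓ N.map (MulAut.conj D.t).toMonoidHom with hM
  have htt : D.t⁻¹ = D.t := inv_eq_of_mul_eq_one_right D.tt
  have hmemM : ∀ x, x ∈ M ↔ x ∈ N ∧ D.t * x * D.t ∈ N := by
    intro x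
    rw [hM, Subgroup.mem_inf]
    refine and_congr_right fun _ => ?_
    constructor
    · rintro ⟨y, hy, rfl⟩
      have : D.t * (MulAut.conj D.t).toMonoidHom y * D.t = y := by
        change D.t * (D.t * y * D.t⁻¹) * D.t = y
        rw [htt]
        calc D.t * (D.t * y * D.t) * D.t = (D.t * D.t) * y * (D.t * D.t) := by group
          _ = y := by rw [D.tt]; group
      rw [this]; exact hy
    · intro h
      refine ⟨_, h, ?_⟩
      change D.t * (D.t * x * D.t) * D.t⁻¹ = x
      rw [htt]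
      calc D.t * (D.t * x * D.t) * D.t = (D.t * D.t) * x * (D.t * D.t) := by group
        _ = x := by rw [D.tt]; group
  have htnor : ∀ g ∈ G0, D.t * g * D.t ∈ G0 := by
    intro g hg
    have := (Subgroup.normal_of_index_eq_two h2).conj_mem g hg D.t
    rwa [htt] at this
  have hMn : M.Normal := by
    constructor
    intro x hx g
    rw [hmemM] at hx ⊢
    have hM0 : ∀ g ∈ G0, ∀ x, (x ∈ N ∧ D.t * x * D.t ∈ N) → (g * x * g⁻¹ ∈ N ∧ D.t * (g * x * g⁻¹) * D.t ∈ N) := by
      intro g hg x hx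
      refine ⟨hn g hg x hx.1, ?_⟩
      have : D.t * (g * x * g⁻¹) * D.t = (D.t * g * D.t) * (D.t * x * D.t) * (D.t * g * D.t)⁻¹ := by
        simp only [mul_inv_rev, htt]
        calc D.t * (g * x * g⁻¹) * D.t = D.t * g * x * g⁻¹ * D.t := by group
          _ = D.t * g * (D.t * D.t) * x * (D.t * D.t) * g⁻¹ * D.t := by rw [D.tt]; simp [mul_assoc]
          _ = _ := by group
      rw [this]
      exact hn _ (htnor g hg) _ hx.2
    have hMt : ∀ x, (x ∈ N ∧ D.t * x * D.t ∈ N) → (D.t * x * D.t ∈ N ∧ D.t * (D.t * x * D.t) * D.t ∈ N) := by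
      intro x hx
      refine ⟨hx.2, ?_⟩
      have : D.t * (D.t * x * D.t) * D.t = x := by
        calc D.t * (D.t * x * D.t) * D.t = (D.t * D.t) * x * (D.t * D.t) := by group
          _ = x := by rw [D.tt]; group
      rw [this]; exact hx.1
    rcases mem_or h2 ht (g := g) with hg | hg
    · exact hM0 g hg x hx
    · have h5 := hMt _ (hM0 _ hg x hx)
      have h6 : D.t * (D.t * g * x * (D.t * g)⁻¹) * D.t = g * x * g⁻¹ := by
        rw [mul_inv_rev, htt]
        calc D.t * (D.t * g * x * (g⁻¹ * D.t)) * D.t = (D.t * D.t) * g * x * g⁻¹ * (D.t * D.t) := by group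
          _ = g * x * g⁻¹ := by rw [D.tt]; group
      rw [h6] at h5
      exact h5
  have hSM : ∀ v, D.f v ∈ M := by
    intro v
    rw [hmemM]
    refine ⟨hSN v, ?_⟩
    have h5 := D.Ef (.sr 2) v
    change D.t * D.f v * D.t⁻¹ = _ at h5
    rw [htt] at h5
    rw [h5]
    exact hSN _
  have hHM := hFr M hMn (by rintro _ ⟨v, rfl⟩; exact hSM v.toAdd)
  -- every element is in `M * E D`
  have hgen : ∀ x : G, ∃ d : DihedralGroup 4, (QuotientGroup.mk' M) x = (QuotientGroup.mk' M) (D.E d) := by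
    intro x
    have hx : x ∈ H ⊔ M := by rw [hHM]; trivial
    rw [Subgroup.mem_sup_of_normal_right] at hx
    obtain ⟨h, hh, m, hm, rfl⟩ := hx
    obtain ⟨u, k, rfl⟩ := D.ex h hh
    refine ⟨k, ?_⟩
    have h5 : (QuotientGroup.mk' M) (D.f u) = 1 := by
      rw [QuotientGroup.mk'_apply, QuotientGroup.eq_one_iff]; exact hSM u
    have h6 : (QuotientGroup.mk' M) m = 1 := by
      rw [QuotientGroup.mk'_apply, QuotientGroup.eq_one_iff]; exact hm
    rw [map_mul, map_mul, h6, mul_one, D.e_eq]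
    change (QuotientGroup.mk' M) (D.f u) * _ = _
    rw [h5, one_mul]
  set q := QuotientGroup.mk' M with hq
  have hqs : Function.Surjective q := QuotientGroup.mk'_surjective M
  set θ : DihedralGroup 4 →* G ⧸ M := q.comp D.E with hθ
  have hθs : Function.Surjective θ := by
    intro y
    obtain ⟨x, rfl⟩ := hqs y
    obtain ⟨d, hd⟩ := hgen x
    exact ⟨d, hd.symm⟩
  have h5 : q (D.E (.r 1)) ∈ (commutator (DihedralGroup 4)).map θ := by
    have e1 : (commutator (DihedralGroup 4)).map θ = commutator (G ⧸ M) := by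
      rw [commutator_def, commutator_def, Subgroup.map_commutator, Subgroup.map_top_of_surjective _ hθs]
    have e2 : (commutator G).map q = commutator (G ⧸ M) := by
      rw [commutator_def, commutator_def, Subgroup.map_commutator, Subgroup.map_top_of_surjective _ hqs]
    rw [e1, ← e2]
    exact ⟨_, hr, rfl⟩
  obtain ⟨d, hd, hd2⟩ := h5
  have hd' : d = 1 ∨ d = .r 2 := by
    have h6 : commutator (DihedralGroup 4) ≤ Subgroup.zpowers (.r 2) := by
      rw [commutator_def, Subgroup.commutator_le]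
      intro a _ b _
      have h7 : ∀ a b : DihedralGroup 4, ⁅a, b⁆ = 1 ∨ ⁅a, b⁆ = .r 2 := by decide
      rcases h7 a b with h8 | h8
      · rw [h8]; exact Subgroup.one_mem _
      · rw [h8]; exact Subgroup.mem_zpowers _
    obtain ⟨n, rfl⟩ := Subgroup.mem_zpowers_iff.1 (h6 hd)
    rcases Int.even_or_odd' n with ⟨k, rfl | rfl⟩
    · left
      rw [zpow_mul]
      have : (DihedralGroup.r 2 : DihedralGroup 4) ^ (2 : ℤ) = 1 := by decide
      rw [this, one_zpow]
    · right
      rw [zpow_add, zpow_mul, zpow_one]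
      have : (DihedralGroup.r 2 : DihedralGroup 4) ^ (2 : ℤ) = 1 := by decide
      rw [this, one_zpow, one_mul]
  have hθ1 : θ (.r 1) = 1 := by
    rcases hd' with rfl | rfl
    · rw [map_one] at hd2
      exact hd2.symm
    · have e3 : (DihedralGroup.r 2 : DihedralGroup 4) = .r 1 * .r 1 := by decide
      rw [e3, map_mul] at hd2
      change θ (.r 1) * θ (.r 1) = θ (.r 1) at hd2
      exact mul_eq_right.1 hd2
  have hθr : ∀ i : ZMod 4, θ (.r i) = 1 := by
    intro i
    have : (DihedralGroup.r i : DihedralGroup 4) = .r 1 ^ i.val := by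
      rw [DihedralGroup.r_one_pow, ZMod.natCast_zmod_val]
    rw [this, map_pow, hθ1, one_pow]
  have hMG0 : M ≤ G0 := fun x hx => hN ((hmemM x).1 hx).1
  apply le_antisymm hN
  intro x hx
  obtain ⟨d, hd⟩ := hgen x
  rcases d with i | i
  · have h6 : q x = 1 := by rw [hd]; exact hθr i
    rw [hq, QuotientGroup.mk'_apply, QuotientGroup.eq_one_iff] at h6
    exact ((hmemM x).1 h6).1
  · exfalso
    have h6 : q (x⁻¹ * D.E (.sr i)) = 1 := by rw [map_mul, map_inv, hd, inv_mul_cancel]
    rw [hq, QuotientGroup.mk'_apply, QuotientGroup.eq_one_iff] at h6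
    have h7 := hMG0 h6
    exact sri_notMem h2 ht hs i ((Subgroup.mul_mem_cancel_left G0 (inv_mem hx)).1 h7)

end

section

variable {G : Type*} [Group G] [Finite G] {H : Subgroup G} {D : D9 H} (R : Typed D)

theorem TT41 : TT 4 1 = -1 := by decide
theorem TT43 : TT 4 3 = -1 := by decide
theorem TT11 : TT 1 1 = 1 := by decide
theorem TT13 : TT 1 3 = 1 := by decide

/-- The `S₆` case. -/
theorem Typed.sym6 (hFr : ∀ N : Subgroup G, N.Normal → D.φ.range ≤ N → H ⊔ N = ⊤) (hG : Nat.card G = 720)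
    (h4 : ∃ χ : IrrCharacter G, R.d χ = 1 ∧ R.ty χ = 4)
    (hall : ∀ ψ : IrrCharacter G, R.d ψ = 1 → R.ty ψ = 1 ∨ R.ty ψ = 4) :
    Nonempty (G ≃* Equiv.Perm (Fin 6)) := by
  obtain ⟨χ, hd, ht4⟩ := h4
  have h1 := R.lin_one hd
  have hε := (R.lin_type hd).2.1
  have hχt : (χ : G → ℂ) D.t = -1 := by
    rw [R.lin_t hd, R.hty, hε, ht4, TT41]; simp
  have hχs : (χ : G → ℂ) D.s = -1 := by
    rw [R.lin_s hd, R.hty, hε, ht4, TT43]; simp
  let F : G →* ℂ := linHom (irr_isCharacter χ) h1
  have hFt : F D.t = -1 := hχt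
  have hFs : F D.s = -1 := hχs
  have hFf : ∀ v, F (D.f v) = 1 := fun v => R.lin_f hd v
  -- `F` has values `± 1`
  have hFr' : ∀ N : Subgroup G, N.Normal → H ≤ N → N = ⊤ := by
    intro N hN hHN
    have h5 := hFr N hN (by rintro _ ⟨v, rfl⟩; exact hHN (D.f_mem v.toAdd))
    rwa [sup_eq_right.2 hHN] at h5
  have hsq : ∀ g, F g * F g = 1 := by
    obtain ⟨φ, h5, h6⟩ := R.tensor hd χ
    have hφ : ∀ g, (χ : G → ℂ) g * (χ : G → ℂ) g = F g * F g := fun g => rfl
    set F2 : G →* ℂ := F * F with hF2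
    let ψ : IrrCharacter G := ⟨F2, isIrrCharacter_of_hom F2⟩
    have hψd : R.d ψ = 1 := by
      have : (ψ : G → ℂ) 1 = 1 := map_one F2
      rw [R.hd] at this
      exact_mod_cast this
    have hψt : (ψ : G → ℂ) D.t = 1 := by
      change F D.t * F D.t = 1
      rw [hFt]; norm_num
    have hψ1 : R.ty ψ = 1 := by
      rcases hall ψ hψd with h7 | h7
      · exact h7
      · exfalso
        have h8 := R.lin_t hψd
        rw [R.hty, (R.lin_type hψd).2.1, h7, TT41, hψt] at h8
        norm_num at h8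
    have h9 := R.triv_of_type1 hFr' hψd hψ1
    intro g
    have : (ψ : G → ℂ) g = 1 := by rw [h9]; rfl
    exact this
  have hpm : ∀ g, F g = 1 ∨ F g = -1 := fun g => mul_self_eq_one_iff.1 (hsq g)
  set G0 : Subgroup G := F.ker with hG0
  have h2 : G0.index = 2 := by
    rw [Subgroup.index_eq_two_iff]
    refine ⟨D.t, fun b => ?_⟩
    rw [hG0, MonoidHom.mem_ker, MonoidHom.mem_ker, map_mul, hFt]
    rcases hpm b with h5 | h5 <;> rw [h5] <;> norm_num [Xor]
  have hf : ∀ v, D.f v ∈ G0 := fun v => hFf v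
  have ht : D.t ∉ G0 := by
    intro h
    have h5 : F D.t = 1 := h
    rw [hFt] at h5; norm_num at h5
  have hs : D.s ∉ G0 := by
    intro h
    have h5 : F D.s = 1 := h
    rw [hFs] at h5; norm_num at h5
  have hcard : Nat.card G0 = 360 := by
    have := Subgroup.card_mul_index G0
    rw [h2, hG] at this
    omega
  -- the rotation is in the commutator subgroup
  have hr : D.E (.r 1) ∈ commutator G := by
    by_contra hcon
    have h5 : (Abelianization.of (D.E (.r 1)) : Abelianization G) ≠ 1 := by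
      intro h
      apply hcon
      rw [← Abelianization.ker_of]
      exact h
    obtain ⟨φ, hφ⟩ := CommGroup.exists_apply_ne_one_of_hasEnoughRootsOfUnity (Abelianization G) ℂ h5
    set F' : G →* ℂ := (Units.coeHom ℂ).comp (φ.comp Abelianization.of) with hF'
    let ψ : IrrCharacter G := ⟨F', isIrrCharacter_of_hom F'⟩
    have hψd : R.d ψ = 1 := by
      have : (ψ : G → ℂ) 1 = 1 := map_one F'
      rw [R.hd] at this
      exact_mod_cast this
    have h6 : F' (D.E (.r 1)) = 1 := by
      have : D.E (.r 1) = D.t * D.s := by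
        unfold D9.t D9.s; rw [← map_mul]; congr 1
      rw [this, map_mul]
      change (ψ : G → ℂ) D.t * (ψ : G → ℂ) D.s = 1
      rw [R.lin_t hψd, R.lin_s hψd, R.hty, R.hty, (R.lin_type hψd).2.1]
      rcases hall ψ hψd with h7 | h7
      · rw [h7, TT11, TT13]; norm_num
      · rw [h7, TT41, TT43]; norm_num
    apply hφ
    apply Units.ext
    exact h6
  -- simplicity
  have hsimple : IsSimpleGroup G0 := by
    have hnt : Nontrivial G0 := by
      refine ⟨⟨⟨D.f (1, 0), hf _⟩, 1, fun h => ?_⟩⟩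
      exact D.f_ne_one (v := (1, 0)) (by decide) (congrArg Subtype.val h)
    refine { exists_pair_ne := hnt.exists_pair_ne, eq_bot_or_eq_top_of_normal := fun N hN => ?_ }
    by_cases hN1 : N = ⊥
    · exact Or.inl hN1
    · right
      set N' := N.map G0.subtype with hN'
      have hle : N' ≤ G0 := by rintro _ ⟨x, -, rfl⟩; exact x.2
      have hn : ∀ g ∈ G0, ∀ x ∈ N', g * x * g⁻¹ ∈ N' := by
        rintro g hg _ ⟨x, hx, rfl⟩
        exact ⟨⟨g, hg⟩ * x * ⟨g, hg⟩⁻¹, hN.conj_mem x hx _, rfl⟩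
      have hne : N' ≠ ⊥ := by
        intro h
        apply hN1
        rwa [hN', Subgroup.map_eq_bot_iff_of_injective _ G0.subtype_injective] at h
      have h5 := lemmaB h2 hf ht hs hFr hr hle hn (lemmaA hG h2 hf ht hs hle hn hne)
      rw [eq_top_iff]
      intro x _
      have h6 : (x : G) ∈ N' := by rw [h5]; exact x.2
      obtain ⟨y, hy, hyx⟩ := h6
      have : y = x := Subtype.ext hyx
      rw [← this]; exact hy
  obtain ⟨e⟩ := H21.O360.main (G := G0) hcard
  refine sym6_of h2 e (centralizer_G0 hf (r1_mem h2 ht hs)) ht (hf (1, 0)) ?_ ?_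
  · have : Fact (Nat.Prime 3) := ⟨by norm_num⟩
    exact orderOf_eq_prime (D.f_cube _) (D.f_ne_one (by decide))
  · have h5 := D.Ef (.sr 2) (1, 0)
    have h6 : sgD (.sr 2) (1, 0) = (1, 0) := by decide
    rw [h6] at h5
    exact mul_inv_eq_iff_eq_mul.1 h5

end

end Cfsg.Agent.Tri3
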