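import Cfsg.Agent.Tri3.Nine.Num2

/-!
# The number theory for `3² : D₈`, the small cases
-/

set_option autoImplicit false
set_option linter.unusedSectionVars false
set_option maxHeartbeats 4000000

namespace Cfsg.Agent.Tri3

theorem num_c1 {g a m r : ℤ} (hg : 0 < g) (ha : (a - 1) % 9 = 0) (hm : (m - 2) % 9 = 0)
    (hr : r = 1 + a + m) (hm7 : m ≠ -7)
    (heq : (g : ℚ) * (2 + 2 * (1 / a) + 8 * (1 / m) + 4 * (1 / r)) = 648)
    (hsq : 2 + 2 * a ^ 2 + m ^ 2 + 4 * r ^ 2 ≤ g) : g = 72 ∨ (g = 720 ∧ a ≠ 1) := by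
  have Ra := recip_ge (x := a) (n := 8) (by norm_num) (by omega)
  have Rm := recip_ge (x := m) (n := 16) (by norm_num) (by omega)
  have Rr := recip_ge (x := r) (n := 5) (by norm_num) (by omega)
  push_cast at Ra Rm Rr
  have hg' : (0 : ℚ) < g := by exact_mod_cast hg
  have hgb : g ≤ 1440 := by
    have : (g : ℚ) * (9 / 20) ≤ 648 := by rw [← heq]; exact mul_le_mul_of_nonneg_left (by linarith) hg'.le
    have h2 : (g : ℚ) ≤ 1440 := by linarith
    exact_mod_cast h2
  have ba := abs_bound (x := a) (B := 27) (by norm_num) (by nlinarith [sq_nonneg m, sq_nonneg r])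
  have bm := abs_bound (x := m) (B := 38) (by norm_num) (by nlinarith [sq_nonneg a, sq_nonneg r])
  have na : (a : ℚ) ≠ 0 := by
    have : a ≠ 0 := by omega
    exact_mod_cast this
  have nm : (m : ℚ) ≠ 0 := by
    have : m ≠ 0 := by omega
    exact_mod_cast this
  have nr : (r : ℚ) ≠ 0 := by
    have : r ≠ 0 := by omega
    exact_mod_cast this
  have hZ : g * (2 * a * m * r + 2 * m * r + 8 * a * r + 4 * a * m) = 648 * a * m * r := by
    have : ((g * (2 * a * m * r + 2 * m * r + 8 * a * r + 4 * a * m) : ℤ) : ℚ) = ((648 * a * m * r : ℤ) : ℚ) := by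
      push_cast
      field_simp at heq
      linear_combination heq
    exact_mod_cast this
  subst hr
  clear heq Ra Rm Rr na nm nr hg'
  obtain ⟨k, hk⟩ : ∃ k : ℤ, a = 1 + 9 * k := ⟨(a - 1) / 9, by omega⟩
  obtain ⟨n, hn⟩ : ∃ n : ℤ, m = 2 + 9 * n := ⟨(m - 2) / 9, by omega⟩
  subst hk hn
  have k1 : -3 ≤ k := by omega
  have k2 : k ≤ 2 := by omega
  have n1 : -4 ≤ n := by omega
  have n2 : n ≤ 4 := by omega
  clear ba bm ha hm
  interval_cases k <;> interval_cases n <;> norm_num at hZ hsq hm7 <;> omega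

theorem num_III {g e a r w : ℤ} (hg : 0 < g) (he : (e - 1) % 9 = 0) (he1 : e ≠ 1) (hrr : (r - 4) % 9 = 0)
    (ha : a = -2 * (1 + e) - r) (hw : w = 1 + e + r)
    (heq : (g : ℚ) * (1 + 1 / e + 2 * (1 / a) + 2 * (1 / r)) = 648)
    (hsq : 1 + e ^ 2 + 2 * a ^ 2 + 2 * r ^ 2 + 2 * w ^ 2 ≤ g) : False := by
  have Re := recip_ge (x := e) (n := 8) (by norm_num) (by omega)
  have Ra := recip_ge (x := a) (n := 8) (by norm_num) (by omega)
  have Rr := recip_ge (x := r) (n := 5) (by norm_num) (by omega)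
  push_cast at Ra Re Rr
  have hg' : (0 : ℚ) < g := by exact_mod_cast hg
  have hgb : g ≤ 2880 := by
    have : (g : ℚ) * (9 / 40) ≤ 648 := by rw [← heq]; exact mul_le_mul_of_nonneg_left (by linarith) hg'.le
    have h2 : (g : ℚ) ≤ 2880 := by linarith
    exact_mod_cast h2
  have be := abs_bound (x := e) (B := 54) (by norm_num) (by nlinarith [sq_nonneg a, sq_nonneg r, sq_nonneg w])
  have br := abs_bound (x := r) (B := 38) (by norm_num) (by nlinarith [sq_nonneg e, sq_nonneg a, sq_nonneg w])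
  have na : (a : ℚ) ≠ 0 := by
    have : a ≠ 0 := by omega
    exact_mod_cast this
  have ne : (e : ℚ) ≠ 0 := by
    have : e ≠ 0 := by omega
    exact_mod_cast this
  have nr : (r : ℚ) ≠ 0 := by
    have : r ≠ 0 := by omega
    exact_mod_cast this
  have hZ : g * (e * a * r + a * r + 2 * e * r + 2 * e * a) = 648 * e * a * r := by
    have : ((g * (e * a * r + a * r + 2 * e * r + 2 * e * a) : ℤ) : ℚ) = ((648 * e * a * r : ℤ) : ℚ) := by
      push_cast
      field_simp at heq
      linear_combination heq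
    exact_mod_cast this
  subst ha hw
  clear heq Ra Re Rr na ne nr hg'
  obtain ⟨k, hk⟩ : ∃ k : ℤ, e = 1 + 9 * k := ⟨(e - 1) / 9, by omega⟩
  obtain ⟨n, hn⟩ : ∃ n : ℤ, r = 4 + 9 * n := ⟨(r - 4) / 9, by omega⟩
  subst hk hn
  have k1 : -6 ≤ k := by omega
  have k2 : k ≤ 5 := by omega
  have n1 : -4 ≤ n := by omega
  have n2 : n ≤ 3 := by omega
  clear be br he hrr
  interval_cases k <;> interval_cases n <;> norm_num at hZ hsq he1 <;> omega

end Cfsg.Agent.Tri3
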