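import Cfsg.Agent.Tri3.Nine.Lin
import Cfsg.Agent.Tri3.Nine.Num3

/-!
# Case I: nine characters
-/

set_option autoImplicit false
set_option linter.unusedSectionVars false
set_option maxHeartbeats 4000000

open scoped ComplexConjugate
open Cfsg Cfsg.Agent.CharBase

namespace Cfsg.Agent.Tri3

section

variable {G : Type*} [Group G] [Finite G] {H : Subgroup G} {D : D9 H} (R : Typed D) [Fintype (IrrCharacter G)]

theorem Typed.sq_le (T : Finset (Fin 16)) : ∑ t ∈ T, R.SS t ≤ (Nat.card G : ℤ) := by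
  rw [← R.sqS]
  exact Finset.sum_le_sum_of_subset_of_nonneg (Finset.subset_univ _) (fun t _ _ => R.SS_nonneg t)

/-- a character with `m₀ = 0` and odd value on the class 6A -/
theorem Typed.no_m0 (hlin : ∀ χ : IrrCharacter G, R.d χ = 1 → χ = oneIrr G) {χ : IrrCharacter G}
    (h : R.sd χ + 4 * (TT (R.ty χ) 0 + TT (R.ty χ) 2) = 0) (hodd : (TT (R.ty χ) 1) % 2 = 1) (hd : R.sd χ % 4 = 0) : False := by
  have h1 := R.m0_eq χ
  rw [h, mul_zero] at h1
  have h2 : R.m0 χ = 0 := by omega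
  have h3 := R.hm0 χ h2
  have h4 := R.four_dvd hlin χ
  rw [h3, R.hty] at h4
  unfold Typed.sd at hd
  rcases R.hε χ with h5 | h5 <;> rw [h5] at h4 hd <;> omega

theorem Typed.caseI (hFr : ∀ N : Subgroup G, N.Normal → H ≤ N → N = ⊤)
    (n1 : R.N 1 = 1) (n2 : R.N 2 = 1) (n3 : R.N 3 = 1) (n4 : R.N 4 = 1) (n5 : R.N 5 = 1) (n6 : R.N 6 = 1)
    (n7 : R.N 7 = 1) (n8 : R.N 8 = 1) (n9 : R.N 9 = 1) (n10 : R.N 10 = 0) (n11 : R.N 11 = 0) (n12 : R.N 12 = 0)
    (n13 : R.N 13 = 0) (n14 : R.N 14 = 0) (n15 : R.N 15 = 0) :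
    Nat.card G = 72 ∨ (Nat.card G = 720 ∧ (∃ χ : IrrCharacter G, R.d χ = 1 ∧ R.ty χ = 4) ∧
      ∀ ψ : IrrCharacter G, R.d ψ = 1 → R.ty ψ = 1 ∨ R.ty ψ = 4) := by
  have hd0 := R.degS 0
  have hd1 := R.degS 1
  have hd2 := R.degS 2
  have hd3 := R.degS 3
  have haab := R.aab
  have habb := R.abb
  have hsq := R.sqS
  obtain ⟨χ1, f1, t1, s1, q1, i1⟩ := R.one_of n1
  obtain ⟨χ2, f2, t2, s2, q2, i2⟩ := R.one_of n2
  obtain ⟨χ3, f3, t3, s3, q3, i3⟩ := R.one_of n3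
  obtain ⟨χ4, f4, t4, s4, q4, i4⟩ := R.one_of n4
  obtain ⟨χ5, f5, t5, s5, q5, i5⟩ := R.one_of n5
  obtain ⟨χ6, f6, t6, s6, q6, i6⟩ := R.one_of n6
  obtain ⟨χ7, f7, t7, s7, q7, i7⟩ := R.one_of n7
  obtain ⟨χ8, f8, t8, s8, q8, i8⟩ := R.one_of n8
  obtain ⟨χ9, f9, t9, s9, q9, i9⟩ := R.one_of n9
  have e1 : χ1 = oneIrr G := by
    have : oneIrr G ∈ R.fib 1 := R.mem_fib.2 R.one_type.1
    rw [f1, Finset.mem_singleton] at this
    exact this.symm
  have u1 : R.sd χ1 = 1 := by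
    have h : (oneIrr G : G → ℂ) 1 = 1 := rfl
    rw [R.hd] at h
    unfold Typed.sd
    rw [e1, R.one_type.2, one_mul]
    exact_mod_cast h
  rw [sum16] at hd0 hd1 hd2 hd3 haab habb hsq
  rw [R.SD_zero n10, R.SD_zero n11, R.SD_zero n12, R.SD_zero n13, R.SD_zero n14, R.SD_zero n15, s1, s2, s3, s4, s5, s6, s7,
    s8, s9, u1] at hd0 hd1 hd2 hd3
  rw [R.SI_zero n10, R.SI_zero n11, R.SI_zero n12, R.SI_zero n13, R.SI_zero n14, R.SI_zero n15, i1, i2, i3, i4, i5, i6, i7,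
    i8, i9, u1] at haab habb
  have hS0 := R.SS_nonneg 0
  rw [R.SS_zero n10, R.SS_zero n11, R.SS_zero n12, R.SS_zero n13, R.SS_zero n14, R.SS_zero n15, q1, q2, q3, q4, q5, q6, q7,
    q8, q9, u1] at hsq
  have c2 := R.sd_mod χ2
  have c3 := R.sd_mod χ3
  have c4 := R.sd_mod χ4
  have c5 := R.sd_mod χ5
  have c6 := R.sd_mod χ6
  have c7 := R.sd_mod χ7
  have c8 := R.sd_mod χ8
  have c9 := R.sd_mod χ9
  have m5 := R.m0_eq χ5
  have m5' := R.m0nn χ5
  have z2 := R.sd_ne χ2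
  have z3 := R.sd_ne χ3
  have z4 := R.sd_ne χ4
  have z5 := R.sd_ne χ5
  have z6 := R.sd_ne χ6
  have z7 := R.sd_ne χ7
  have z8 := R.sd_ne χ8
  have z9 := R.sd_ne χ9
  rw [t2] at c2
  rw [t3] at c3
  rw [t4] at c4
  rw [t5] at c5 m5
  rw [t6] at c6
  rw [t7] at c7
  rw [t8] at c8
  rw [t9] at c9
  simp [TT] at hd0 hd1 hd2 hd3 haab habb c2 c3 c4 c5 c6 c7 c8 c9 m5
  have hm7 : R.sd χ5 ≠ -7 := by
    intro h
    have h1 := R.ε_neg (χ := χ5) (by rw [h]; norm_num)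
    rw [h1, h] at m5
    omega
  have hgpos : 0 < (Nat.card G : ℤ) := by exact_mod_cast Nat.card_pos
  have hg0 : (Nat.card G : ℚ) ≠ 0 := by exact_mod_cast Nat.card_pos.ne'
  have in2 : ∀ φ : IrrCharacter G, R.ty φ = 2 → φ = χ2 := by
    intro φ h
    rw [← R.mem_fib, f2, Finset.mem_singleton] at h
    exact h
  have in3 : ∀ φ : IrrCharacter G, R.ty φ = 3 → φ = χ3 := by
    intro φ h
    rw [← R.mem_fib, f3, Finset.mem_singleton] at h
    exact h
  have in4 : ∀ φ : IrrCharacter G, R.ty φ = 4 → φ = χ4 := by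
    intro φ h
    rw [← R.mem_fib, f4, Finset.mem_singleton] at h
    exact h
  have k6 : R.sd χ6 = R.sd χ3 + R.sd χ4 + R.sd χ5 := by omega
  have k7 : R.sd χ7 = 1 + R.sd χ2 + R.sd χ5 := by omega
  have k8 : R.sd χ8 = R.sd χ2 + R.sd χ4 + R.sd χ5 := by omega
  have k9 : R.sd χ9 = 1 + R.sd χ3 + R.sd χ5 := by omega
  clear hd0 hd1 hd2 hd3 s1 s2 s3 s4 s5 s6 s7 s8 s9 q1 q2 q3 q4 q5 q6 q7 q8 q9 i1 i2 i3 i4 i5 i6 i7 i8 i9
  have hsq' : 1 + R.sd χ2 ^ 2 + R.sd χ3 ^ 2 + R.sd χ4 ^ 2 + R.sd χ5 ^ 2 + R.sd χ6 ^ 2 + R.sd χ7 ^ 2 + R.sd χ8 ^ 2 +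
      R.sd χ9 ^ 2 ≤ (Nat.card G : ℤ) := by rw [← hsq]; linarith
  clear hsq
  -- the dichotomy
  have hdich : (R.sd χ6 - R.sd χ8) * (R.sd χ6 - R.sd χ9) = 0 := by
    have h1 : (1 / (R.sd χ6 : ℚ) + 1 / (R.sd χ7 : ℚ)) = (1 / (R.sd χ8 : ℚ) + 1 / (R.sd χ9 : ℚ)) := by
      have h2 : (Nat.card G : ℚ) * ((1 / (R.sd χ6 : ℚ) + 1 / (R.sd χ7 : ℚ)) - (1 / (R.sd χ8 : ℚ) + 1 / (R.sd χ9 : ℚ))) = 0 := by
        simp only [one_div]
        linear_combination (-1 / 6) * haab + (1 / 6) * habb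
      rcases mul_eq_zero.1 h2 with h3 | h3
      · exact absurd h3 hg0
      · linear_combination h3
    have y6 : (R.sd χ6 : ℚ) ≠ 0 := by exact_mod_cast z6
    have y7 : (R.sd χ7 : ℚ) ≠ 0 := by exact_mod_cast z7
    have y8 : (R.sd χ8 : ℚ) ≠ 0 := by exact_mod_cast z8
    have y9 : (R.sd χ9 : ℚ) ≠ 0 := by exact_mod_cast z9
    have h2 : (R.sd χ6 + R.sd χ7) * (R.sd χ8 * R.sd χ9) = (R.sd χ8 + R.sd χ9) * (R.sd χ6 * R.sd χ7) := by
      have : (((R.sd χ6 + R.sd χ7) * (R.sd χ8 * R.sd χ9) : ℤ) : ℚ) = (((R.sd χ8 + R.sd χ9) * (R.sd χ6 * R.sd χ7) : ℤ) : ℚ) := by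
        push_cast
        field_simp at h1
        linear_combination h1
      exact_mod_cast this
    have h3 : R.sd χ8 + R.sd χ9 = R.sd χ6 + R.sd χ7 := by omega
    rw [h3] at h2
    have h4 : R.sd χ6 + R.sd χ7 ≠ 0 := by omega
    have h5 : R.sd χ8 * R.sd χ9 = R.sd χ6 * R.sd χ7 := mul_left_cancel₀ h4 h2
    linear_combination h5 - R.sd χ6 * h3
  by_cases hc1 : R.sd χ4 = 1
  · -- a linear character of type 4
    have hd4 := R.d_of_sd_one hc1
    have hab : R.sd χ3 = R.sd χ2 := by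
      obtain ⟨φ, h1, h2⟩ := R.tensor_type (ψ := χ2) hd4 3 (by decide) (by rw [t4, t2]; decide)
      rw [← in3 φ h1, h2]
    have h6 : R.sd χ6 = 1 + R.sd χ2 + R.sd χ5 := by rw [k6, hab, hc1]; ring
    have h8 : R.sd χ8 = 1 + R.sd χ2 + R.sd χ5 := by rw [k8, hc1]; ring
    have h9 : R.sd χ9 = 1 + R.sd χ2 + R.sd χ5 := by rw [k9, hab]
    have hres := num_c1 (g := Nat.card G) (a := R.sd χ2) (m := R.sd χ5) (r := R.sd χ7) hgpos (by omega) (by omega) k7 hm7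
      (by
        rw [hab, hc1, h6, h8, h9, ← k7] at haab
        push_cast at haab ⊢
        simp only [one_div]
        linear_combination haab)
      (by
        rw [hab, hc1, h6, h8, h9, ← k7] at hsq'
        linarith)
    rcases hres with h | h
    · left; exact_mod_cast h
    · right
      refine ⟨by exact_mod_cast h.1, ⟨χ4, hd4, t4⟩, fun ψ hψ => ?_⟩
      obtain ⟨k1, -, k3⟩ := R.lin_type hψ
      rcases k1 with k1 | k1 | k1 | k1
      · exact Or.inl k1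
      · exact absurd (by rw [in2 ψ k1] at k3; exact k3) h.2
      · exact absurd (by rw [in3 ψ k1, hab] at k3; exact k3) h.2
      · exact Or.inr k1
  · exfalso
    have hab : R.sd χ3 = R.sd χ2 := by
      rcases mul_eq_zero.1 hdich with h | h
      · omega
      · exfalso; omega
    have hlin : ∀ χ : IrrCharacter G, R.d χ = 1 → χ = oneIrr G := by
      intro χ hχ
      obtain ⟨h1, h2, h3⟩ := R.lin_type hχ
      have hno : R.sd χ2 ≠ 1 := by
        intro h4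
        have hd2 := R.d_of_sd_one h4
        obtain ⟨φ, h5, h6⟩ := R.tensor_type (ψ := χ3) hd2 4 (by decide) (by rw [t2, t3]; decide)
        rw [in4 φ h5, hab, h4] at h6
        exact hc1 h6
      rcases h1 with h1 | h1 | h1 | h1
      · exact R.triv_of_type1 hFr hχ h1
      · exfalso; rw [in2 χ h1] at h3; exact hno h3
      · exfalso; rw [in3 χ h1, hab] at h3; exact hno h3
      · exfalso; rw [in4 χ h1] at h3; exact hc1 h3
    have ha1 : R.sd χ2 ≠ 1 := by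
      intro h
      have h1 := hlin χ2 (R.d_of_sd_one h)
      rw [h1, R.one_type.1] at t2
      exact absurd t2 (by decide)
    refine num_P (g := Nat.card G) (a := R.sd χ2) (c := R.sd χ4) (m := R.sd χ5) (r := R.sd χ6) (rp := R.sd χ7) hgpos
      (by omega) (by omega) (by omega) (by omega) (by rw [k6, hab]) k7 ha1 ?_ hc1 ?_ hm7 ?_ ?_ ?_ ?_
    · intro h
      refine R.no_m0 hlin (χ := χ2) ?_ ?_ ?_
      · rw [t2, h]; decide
      · rw [t2]; decide
      · rw [h]; decide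
    · intro h
      refine R.no_m0 hlin (χ := χ4) ?_ ?_ ?_
      · rw [t4, h]; decide
      · rw [t4]; decide
      · rw [h]; decide
    · intro h
      refine R.no_m0 hlin (χ := χ6) ?_ ?_ ?_
      · rw [t6, h]; decide
      · rw [t6]; decide
      · rw [h]; decide
    · intro h
      refine R.no_m0 hlin (χ := χ7) ?_ ?_ ?_
      · rw [t7, h]; decide
      · rw [t7]; decide
      · rw [h]; decide
    · have h8 : R.sd χ8 = R.sd χ6 := by rw [k8, k6, hab]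
      have h9 : R.sd χ9 = R.sd χ7 := by rw [k9, k7, hab]
      rw [h8, h9, hab] at haab
      push_cast at haab ⊢
      simp only [one_div]
      linear_combination haab
    · have h8 : R.sd χ8 = R.sd χ6 := by rw [k8, k6, hab]
      have h9 : R.sd χ9 = R.sd χ7 := by rw [k9, k7, hab]
      rw [h8, h9, hab] at hsq'
      linarith

end

end Cfsg.Agent.Tri3
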