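import Cfsg.Agent.Tri3.Nine.Coord
import Cfsg.Agent.Tri3.Semi

/-!
# Characters restricted to `3² : D₈`
-/

set_option autoImplicit false
set_option linter.unusedSectionVars false
set_option maxHeartbeats 1000000

open scoped ComplexConjugate
open Cfsg Cfsg.Agent.CharBase

namespace Cfsg.Agent.Tri3

open Multiplicative

/-- the dot product -/
def dot2 (w : A2) : A2 →+ ZMod 3 where
  toFun v := w.1 * v.1 + w.2 * v.2
  map_zero' := by simp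
  map_add' a b := by simp only [Prod.fst_add, Prod.snd_add]; ring

theorem sum_zmod3' (f : ZMod 3 → ℂ) : ∑ x, f x = f 0 + f 1 + f 2 := Fin.sum_univ_three f

theorem sum_A2 (F : A2 → ℂ) : ∑ v : A2, F v = F (0, 0) + F (0, 1) + F (0, 2) + (F (1, 0) + F (1, 1) + F (1, 2)) +
    (F (2, 0) + F (2, 1) + F (2, 2)) := by
  simp only [Fintype.sum_prod_type, sum_zmod3']

section

variable {G : Type*} [Group G] [Finite G] {H : Subgroup G} (D : D9 H)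

theorem D9.Ef (g : DihedralGroup 4) (v : A2) : D.E g * D.f v * (D.E g)⁻¹ = D.f (sgD g v) := by
  rw [← D.e_eq]; exact D.f_conj g v

theorem D9.char_f (χ : IrrCharacter G) (g : DihedralGroup 4) (v : A2) :
    (χ : G → ℂ) (D.f (sgD g v)) = (χ : G → ℂ) (D.f v) := by
  symm
  apply classFun_eq_of_isConj (irr_isClassFunction χ)
  rw [isConj_iff]
  exact ⟨D.E g, D.Ef g v⟩

theorem D9.char_fE (χ : IrrCharacter G) (g : DihedralGroup 4) (u v : A2) :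
    (χ : G → ℂ) (D.f (u + v - sgD g u) * D.E g) = (χ : G → ℂ) (D.f v * D.E g) := by
  symm
  apply classFun_eq_of_isConj (irr_isClassFunction χ)
  rw [isConj_iff]
  refine ⟨D.f u, ?_⟩
  rw [sub_eq_add_neg, D.f_add, D.f_add, D.f_neg, ← D.Ef g u]
  group

theorem D9.char_fE' (χ : IrrCharacter G) (g k g' : DihedralGroup 4) (v : A2) (h : k * g * k⁻¹ = g') :
    (χ : G → ℂ) (D.f (sgD k v) * D.E g') = (χ : G → ℂ) (D.f v * D.E g) := by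
  symm
  apply classFun_eq_of_isConj (irr_isClassFunction χ)
  rw [isConj_iff]
  refine ⟨D.E k, ?_⟩
  rw [← D.Ef k v, ← h, map_mul, map_mul, map_inv]
  group

/-- the involutions -/
def D9.t : G := D.E (.sr 2)
def D9.s : G := D.E (.sr 3)

theorem D9.tt : D.t * D.t = 1 := by
  unfold D9.t; rw [← map_mul, ← map_one D.E]; congr 1

theorem D9.ss : D.s * D.s = 1 := by
  unfold D9.s; rw [← map_mul, ← map_one D.E]; congr 1

/-- values on the TI subgroup -/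
theorem vals9 (χ : IrrCharacter G) :
    (χ : G → ℂ) (D.f (0, 1)) = (χ : G → ℂ) (D.f (1, 0)) ∧
    (χ : G → ℂ) (D.f (0, 2)) = (χ : G → ℂ) (D.f (1, 0)) ∧
    (χ : G → ℂ) (D.f (2, 0)) = (χ : G → ℂ) (D.f (1, 0)) ∧
    (χ : G → ℂ) (D.f (1, 2)) = (χ : G → ℂ) (D.f (1, 1)) ∧
    (χ : G → ℂ) (D.f (2, 1)) = (χ : G → ℂ) (D.f (1, 1)) ∧
    (χ : G → ℂ) (D.f (2, 2)) = (χ : G → ℂ) (D.f (1, 1)) := by
  refine ⟨?_, ?_, ?_, ?_, ?_, ?_⟩
  · rw [← D.char_f χ (.sr 3) (1, 0)]; congr 1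
  · rw [← D.char_f χ (.r 1) (1, 0)]; congr 1
  · rw [← D.char_f χ (.r 2) (1, 0)]; congr 1
  · rw [← D.char_f χ (.r 1) (1, 1)]; congr 1
  · rw [← D.char_f χ (.sr 0) (1, 1)]; congr 1
  · rw [← D.char_f χ (.r 2) (1, 1)]; congr 1

theorem vals9t (χ : IrrCharacter G) :
    (χ : G → ℂ) (D.f (0, 1) * D.t) = (χ : G → ℂ) (D.f (0, 0) * D.t) ∧
    (χ : G → ℂ) (D.f (0, 2) * D.t) = (χ : G → ℂ) (D.f (0, 0) * D.t) ∧
    (χ : G → ℂ) (D.f (1, 1) * D.t) = (χ : G → ℂ) (D.f (1, 0) * D.t) ∧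
    (χ : G → ℂ) (D.f (1, 2) * D.t) = (χ : G → ℂ) (D.f (1, 0) * D.t) ∧
    (χ : G → ℂ) (D.f (2, 0) * D.t) = (χ : G → ℂ) (D.f (1, 0) * D.t) ∧
    (χ : G → ℂ) (D.f (2, 1) * D.t) = (χ : G → ℂ) (D.f (1, 0) * D.t) ∧
    (χ : G → ℂ) (D.f (2, 2) * D.t) = (χ : G → ℂ) (D.f (1, 0) * D.t) := by
  have h20 : (χ : G → ℂ) (D.f (2, 0) * D.t) = (χ : G → ℂ) (D.f (1, 0) * D.t) := by
    rw [D9.t, ← D.char_fE' χ (.sr 2) (.sr 0) (.sr 2) (1, 0) (by decide)]; congr 1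
  refine ⟨?_, ?_, ?_, ?_, h20, ?_, ?_⟩
  · rw [D9.t, ← D.char_fE χ (.sr 2) (0, 2) (0, 0)]; congr 1
  · rw [D9.t, ← D.char_fE χ (.sr 2) (0, 1) (0, 0)]; congr 1
  · rw [D9.t, ← D.char_fE χ (.sr 2) (0, 2) (1, 0)]; congr 1
  · rw [D9.t, ← D.char_fE χ (.sr 2) (0, 1) (1, 0)]; congr 1
  · rw [← h20, D9.t, ← D.char_fE χ (.sr 2) (0, 2) (2, 0)]; congr 1
  · rw [← h20, D9.t, ← D.char_fE χ (.sr 2) (0, 1) (2, 0)]; congr 1

theorem vals9s (χ : IrrCharacter G) :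
    (χ : G → ℂ) (D.f (1, 2) * D.s) = (χ : G → ℂ) (D.f (0, 0) * D.s) ∧
    (χ : G → ℂ) (D.f (2, 1) * D.s) = (χ : G → ℂ) (D.f (0, 0) * D.s) ∧
    (χ : G → ℂ) (D.f (0, 1) * D.s) = (χ : G → ℂ) (D.f (1, 1) * D.s) ∧
    (χ : G → ℂ) (D.f (0, 2) * D.s) = (χ : G → ℂ) (D.f (1, 1) * D.s) ∧
    (χ : G → ℂ) (D.f (1, 0) * D.s) = (χ : G → ℂ) (D.f (1, 1) * D.s) ∧
    (χ : G → ℂ) (D.f (2, 0) * D.s) = (χ : G → ℂ) (D.f (1, 1) * D.s) ∧
    (χ : G → ℂ) (D.f (2, 2) * D.s) = (χ : G → ℂ) (D.f (1, 1) * D.s) := by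
  have h22 : (χ : G → ℂ) (D.f (2, 2) * D.s) = (χ : G → ℂ) (D.f (1, 1) * D.s) := by
    rw [D9.s, ← D.char_fE' χ (.sr 3) (.r 2) (.sr 3) (1, 1) (by decide)]; congr 1
  refine ⟨?_, ?_, ?_, ?_, ?_, ?_, h22⟩
  · rw [D9.s, ← D.char_fE χ (.sr 3) (1, 0) (0, 0)]; congr 1
  · rw [D9.s, ← D.char_fE χ (.sr 3) (2, 0) (0, 0)]; congr 1
  · rw [← h22, D9.s, ← D.char_fE χ (.sr 3) (1, 0) (2, 2)]; congr 1
  · rw [D9.s, ← D.char_fE χ (.sr 3) (2, 0) (1, 1)]; congr 1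
  · rw [← h22, D9.s, ← D.char_fE χ (.sr 3) (0, 1) (2, 2)]; congr 1
  · rw [D9.s, ← D.char_fE χ (.sr 3) (0, 2) (1, 1)]; congr 1

theorem card_A2 : Nat.card A2 = 9 := by simp [Nat.card_eq_fintype_card, ZMod.card]

/-- the multiplicities and the character values -/
theorem exists_mults (χ : IrrCharacter G) : ∃ m0 mA mB n0p n0m n1p n1m k0p k0m k1p k1m : ℕ,
    m0 = n0p + n0m ∧ mA = n1p + n1m ∧ m0 = k0p + k0m ∧ mB = k1p + k1m ∧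
    (χ : G → ℂ) 1 = m0 + 4 * mA + 4 * mB ∧
    (χ : G → ℂ) (D.f (1, 0)) = m0 + mA - 2 * mB ∧
    (χ : G → ℂ) (D.f (1, 1)) = m0 - 2 * mA + mB ∧
    (χ : G → ℂ) (D.f (1, 0) * D.t) = n0p - n0m - (n1p - n1m) ∧
    (χ : G → ℂ) D.t = n0p - n0m + 2 * (n1p - n1m) ∧
    (χ : G → ℂ) (D.f (1, 1) * D.s) = k0p - k0m - (k1p - k1m) := by
  have hr := om_rel
  obtain ⟨a1, a2, a3, a4, a5, a6⟩ := vals9 D χ
  obtain ⟨b1, b2, b3, b4, b5, b6, b7⟩ := vals9t D χ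
  obtain ⟨c1, c2, c3, c4, c5, c6, c7⟩ := vals9s D χ
  have hz : D.f (0, 0) = 1 := D.f_zero
  obtain ⟨m0, hm0⟩ := exists_mult D.φ (dot2 (0, 0)) (irr_isCharacter χ)
  obtain ⟨mA, hmA⟩ := exists_mult D.φ (dot2 (1, 0)) (irr_isCharacter χ)
  obtain ⟨mB, hmB⟩ := exists_mult D.φ (dot2 (1, 1)) (irr_isCharacter χ)
  have htc : ∀ v, D.t * D.φ (ofAdd v) * D.t⁻¹ = D.φ (ofAdd (sgD (.sr 2) v)) := D.Ef (.sr 2)
  have hsc : ∀ v, D.s * D.φ (ofAdd v) * D.s⁻¹ = D.φ (ofAdd (sgD (.sr 3) v)) := D.Ef (.sr 3)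
  obtain ⟨n0p, hn0p⟩ := exists_mult_semi D.φ D.t D.tt (sgD (.sr 2)) (by decide) (by decide) htc (dot2 (0, 0)) (by decide)
    1 (Or.inl rfl) (irr_isCharacter χ)
  obtain ⟨n0m, hn0m⟩ := exists_mult_semi D.φ D.t D.tt (sgD (.sr 2)) (by decide) (by decide) htc (dot2 (0, 0)) (by decide)
    (-1) (Or.inr rfl) (irr_isCharacter χ)
  obtain ⟨n1p, hn1p⟩ := exists_mult_semi D.φ D.t D.tt (sgD (.sr 2)) (by decide) (by decide) htc (dot2 (1, 0)) (by decide)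
    1 (Or.inl rfl) (irr_isCharacter χ)
  obtain ⟨n1m, hn1m⟩ := exists_mult_semi D.φ D.t D.tt (sgD (.sr 2)) (by decide) (by decide) htc (dot2 (1, 0)) (by decide)
    (-1) (Or.inr rfl) (irr_isCharacter χ)
  obtain ⟨k0p, hk0p⟩ := exists_mult_semi D.φ D.s D.ss (sgD (.sr 3)) (by decide) (by decide) hsc (dot2 (0, 0)) (by decide)
    1 (Or.inl rfl) (irr_isCharacter χ)
  obtain ⟨k0m, hk0m⟩ := exists_mult_semi D.φ D.s D.ss (sgD (.sr 3)) (by decide) (by decide) hsc (dot2 (0, 0)) (by decide)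
    (-1) (Or.inr rfl) (irr_isCharacter χ)
  obtain ⟨k1p, hk1p⟩ := exists_mult_semi D.φ D.s D.ss (sgD (.sr 3)) (by decide) (by decide) hsc (dot2 (1, 1)) (by decide)
    1 (Or.inl rfl) (irr_isCharacter χ)
  obtain ⟨k1m, hk1m⟩ := exists_mult_semi D.φ D.s D.ss (sgD (.sr 3)) (by decide) (by decide) hsc (dot2 (1, 1)) (by decide)
    (-1) (Or.inr rfl) (irr_isCharacter χ)
  change ∑ v : A2, (χ : G → ℂ) (D.f v) * e3 (-(dot2 (0, 0) v)) = _ at hm0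
  change ∑ v : A2, (χ : G → ℂ) (D.f v) * e3 (-(dot2 (1, 0) v)) = _ at hmA
  change ∑ v : A2, (χ : G → ℂ) (D.f v) * e3 (-(dot2 (1, 1) v)) = _ at hmB
  change ∑ v : A2, (χ : G → ℂ) (D.f v) * e3 (-(dot2 (0, 0) v)) + 1 * ∑ v : A2, (χ : G → ℂ) (D.f v * D.t) * e3 (-(dot2 (0, 0) v)) = _ at hn0p
  change ∑ v : A2, (χ : G → ℂ) (D.f v) * e3 (-(dot2 (0, 0) v)) + -1 * ∑ v : A2, (χ : G → ℂ) (D.f v * D.t) * e3 (-(dot2 (0, 0) v)) = _ at hn0m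
  change ∑ v : A2, (χ : G → ℂ) (D.f v) * e3 (-(dot2 (1, 0) v)) + 1 * ∑ v : A2, (χ : G → ℂ) (D.f v * D.t) * e3 (-(dot2 (1, 0) v)) = _ at hn1p
  change ∑ v : A2, (χ : G → ℂ) (D.f v) * e3 (-(dot2 (1, 0) v)) + -1 * ∑ v : A2, (χ : G → ℂ) (D.f v * D.t) * e3 (-(dot2 (1, 0) v)) = _ at hn1m
  change ∑ v : A2, (χ : G → ℂ) (D.f v) * e3 (-(dot2 (0, 0) v)) + 1 * ∑ v : A2, (χ : G → ℂ) (D.f v * D.s) * e3 (-(dot2 (0, 0) v)) = _ at hk0p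
  change ∑ v : A2, (χ : G → ℂ) (D.f v) * e3 (-(dot2 (0, 0) v)) + -1 * ∑ v : A2, (χ : G → ℂ) (D.f v * D.s) * e3 (-(dot2 (0, 0) v)) = _ at hk0m
  change ∑ v : A2, (χ : G → ℂ) (D.f v) * e3 (-(dot2 (1, 1) v)) + 1 * ∑ v : A2, (χ : G → ℂ) (D.f v * D.s) * e3 (-(dot2 (1, 1) v)) = _ at hk1p
  change ∑ v : A2, (χ : G → ℂ) (D.f v) * e3 (-(dot2 (1, 1) v)) + -1 * ∑ v : A2, (χ : G → ℂ) (D.f v * D.s) * e3 (-(dot2 (1, 1) v)) = _ at hk1m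
  rw [card_A2] at hm0 hmA hmB hn0p hn0m hn1p hn1m hk0p hk0m hk1p hk1m
  have e00 : ∀ v, -(dot2 (0, 0) v) = 0 := by decide
  have f00 : -(dot2 (1, 0) (0, 0)) = 0 := by decide
  have f01 : -(dot2 (1, 0) (0, 1)) = 0 := by decide
  have f02 : -(dot2 (1, 0) (0, 2)) = 0 := by decide
  have f10 : -(dot2 (1, 0) (1, 0)) = 2 := by decide
  have f11 : -(dot2 (1, 0) (1, 1)) = 2 := by decide
  have f12 : -(dot2 (1, 0) (1, 2)) = 2 := by decide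
  have f20 : -(dot2 (1, 0) (2, 0)) = 1 := by decide
  have f21 : -(dot2 (1, 0) (2, 1)) = 1 := by decide
  have f22 : -(dot2 (1, 0) (2, 2)) = 1 := by decide
  have g00 : -(dot2 (1, 1) (0, 0)) = 0 := by decide
  have g01 : -(dot2 (1, 1) (0, 1)) = 2 := by decide
  have g02 : -(dot2 (1, 1) (0, 2)) = 1 := by decide
  have g10 : -(dot2 (1, 1) (1, 0)) = 2 := by decide
  have g11 : -(dot2 (1, 1) (1, 1)) = 1 := by decide
  have g12 : -(dot2 (1, 1) (1, 2)) = 0 := by decide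
  have g20 : -(dot2 (1, 1) (2, 0)) = 1 := by decide
  have g21 : -(dot2 (1, 1) (2, 1)) = 0 := by decide
  have g22 : -(dot2 (1, 1) (2, 2)) = 2 := by decide
  simp only [sum_A2, e00, f00, f01, f02, f10, f11, f12, f20, f21, f22, g00, g01, g02, g10, g11, g12, g20, g21, g22,
    e3_zero, e3_one, e3_two, a1, a2, a3, a4, a5, a6, b1, b2, b3, b4, b5, b6, b7, c1, c2, c3, c4, c5, c6, c7, hz, one_mul]
    at hm0 hmA hmB hn0p hn0m hn1p hn1m hk0p hk0m hk1p hk1m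
  push_cast at hm0 hmA hmB hn0p hn0m hn1p hn1m hk0p hk0m hk1p hk1m
  refine ⟨m0, mA, mB, n0p, n0m, n1p, n1m, k0p, k0m, k1p, k1m, ?_, ?_, ?_, ?_, ?_, ?_, ?_, ?_, ?_, ?_⟩
  · have : (m0 : ℂ) = n0p + n0m := by linear_combination (-1 / 9) * hm0 + (1 / 18) * hn0p + (1 / 18) * hn0m
    exact_mod_cast this
  · have : (mA : ℂ) = n1p + n1m := by linear_combination (-1 / 9) * hmA + (1 / 18) * hn1p + (1 / 18) * hn1m
    exact_mod_cast this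
  · have : (m0 : ℂ) = k0p + k0m := by linear_combination (-1 / 9) * hm0 + (1 / 18) * hk0p + (1 / 18) * hk0m
    exact_mod_cast this
  · have : (mB : ℂ) = k1p + k1m := by linear_combination (-1 / 9) * hmB + (1 / 18) * hk1p + (1 / 18) * hk1m
    exact_mod_cast this
  · linear_combination (1 / 9) * hm0 + (4 / 9) * hmA + (4 / 9) * hmB
  · linear_combination (1 / 9) * hm0 + (1 / 9) * hmA - (2 / 9) * hmB
  · linear_combination (1 / 9) * hm0 - (2 / 9) * hmA + (1 / 9) * hmB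
  · linear_combination (1 / 18) * hn0p - (1 / 18) * hn0m - (1 / 18) * hn1p + (1 / 18) * hn1m
  · linear_combination (1 / 18) * hn0p - (1 / 18) * hn0m + (2 / 18) * hn1p - (2 / 18) * hn1m
  · linear_combination (1 / 18) * hk0p - (1 / 18) * hk0m - (1 / 18) * hk1p + (1 / 18) * hk1m

end

end Cfsg.Agent.Tri3
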