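import Cfsg.Agent.Tri3.Nine.Char
import Cfsg.Agent.Tri3.Const

/-!
# The special classes of `3² : D₈` and their columns
-/

set_option autoImplicit false
set_option linter.unusedSectionVars false
set_option maxHeartbeats 1000000

open scoped ComplexConjugate
open Cfsg Cfsg.Agent.CharBase

namespace Cfsg.Agent.Tri3

open Multiplicative

section

variable {G : Type*} [Group G] [Finite G] {H : Subgroup G} (D : D9 H)

theorem D9.E_ne_one {g : DihedralGroup 4} (hg : g ≠ 1) : D.E g ≠ 1 := by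
  intro h
  apply hg
  apply D.sg_inj
  intro v
  apply D.f_inj
  rw [← D.Ef g v, h]
  have : sgD 1 v = v := by revert v; decide
  rw [this]; group

theorem D9.fE_sq {u : A2} {g : DihedralGroup 4} (hg : g * g = 1) (hu : sgD g u = u) :
    (D.f u * D.E g) ^ 2 = D.f (u + u) := by
  have h := D.Ef g u
  rw [hu] at h
  have hE : D.E g * D.E g = 1 := by rw [← map_mul, hg, map_one]
  calc (D.f u * D.E g) ^ 2 = D.f u * (D.E g * D.f u * (D.E g)⁻¹) * (D.E g * D.E g) := by rw [pow_two]; group
    _ = _ := by rw [h, hE, mul_one, D.f_add]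

theorem D9.fE_four {u : A2} {g : DihedralGroup 4} (hg : g * g = 1) (hu : sgD g u = u) :
    (D.f u * D.E g) ^ 4 = D.f u := by
  have : (D.f u * D.E g) ^ 4 = ((D.f u * D.E g) ^ 2) ^ 2 := by rw [← pow_mul]
  rw [this, D.fE_sq hg hu, pow_two, ← D.f_add]
  have h4 : ∀ u : A2, u + u + (u + u) = u := by decide
  rw [h4]

theorem D9.fE_cube {u : A2} {g : DihedralGroup 4} (hg : g * g = 1) (hu : sgD g u = u) :
    (D.f u * D.E g) ^ 3 = D.E g := by
  have h1 : D.f u * (D.f u * D.E g) ^ 3 = D.f u * D.E g := by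
    have h2 := D.fE_four hg hu
    calc D.f u * (D.f u * D.E g) ^ 3 = (D.f u * D.E g) ^ 4 * (D.f u * D.E g) ^ 3 := by rw [h2]
      _ = ((D.f u * D.E g) ^ 2) ^ 3 * (D.f u * D.E g) := by rw [← pow_add, ← pow_mul, ← pow_succ]
      _ = D.f u * D.E g := by rw [D.fE_sq hg hu, D.f_cube, one_mul]
  exact mul_left_cancel h1

/-- centralizers of the special elements of order 6 -/
theorem D9.card_cen {u : A2} (hu0 : u ≠ 0) {g : DihedralGroup 4} (hg : g * g = 1) (hu : sgD g u = u)
    (hstab : ∀ k, sgD k u = u → k * g = g * k) :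
    Nat.card (Subgroup.centralizer ({D.f u * D.E g} : Set G)) =
      Nat.card {v : A2 // sgD g v = v} * Nat.card {k : DihedralGroup 4 // sgD k u = u} := by
  rw [← Nat.card_prod]
  symm
  apply Nat.card_congr
  have hcomm : ∀ {v : A2} {k : DihedralGroup 4}, sgD g v = v → sgD k u = u →
      D.f v * D.E k * (D.f u * D.E g) = D.f u * D.E g * (D.f v * D.E k) := by
    intro v k hv hk
    have h1 := D.Ef k u
    have h2 := D.Ef g v
    rw [hk] at h1
    rw [hv] at h2
    have h3 : D.E k * D.E g = D.E g * D.E k := by rw [← map_mul, ← map_mul, hstab k hk]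
    calc D.f v * D.E k * (D.f u * D.E g) = D.f v * (D.E k * D.f u * (D.E k)⁻¹) * (D.E k * D.E g) := by group
      _ = D.f v * D.f u * (D.E g * D.E k) := by rw [h1, h3]
      _ = D.f u * D.f v * (D.E g * D.E k) := by rw [D.f_comm]
      _ = D.f u * (D.E g * D.f v * (D.E g)⁻¹) * (D.E g * D.E k) := by rw [h2]
      _ = _ := by group
  refine Equiv.ofBijective (fun p => ⟨D.f p.1.1 * D.E p.2.1, ?_⟩) ⟨?_, ?_⟩
  · rw [Subgroup.mem_centralizer_iff]
    intro h hh
    rw [Set.mem_singleton_iff] at hh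
    subst hh
    exact (hcomm p.1.2 p.2.2).symm
  · rintro ⟨⟨v, hv⟩, ⟨k, hk⟩⟩ ⟨⟨v', hv'⟩, ⟨k', hk'⟩⟩ h
    have h0 := congrArg Subtype.val h
    simp only [← D.e_eq] at h0
    obtain ⟨h1, h2⟩ := D.eq_of_mul_eq h0
    subst h1; subst h2; rfl
  · rintro ⟨h, hh⟩
    have h1 : h * (D.f u * D.E g) = D.f u * D.E g * h := by
      rw [Subgroup.mem_centralizer_iff] at hh
      exact (hh _ rfl).symm
    have h2 : h * D.f u = D.f u * h := by
      have h3 : Commute h ((D.f u * D.E g) ^ 4) := (show Commute h (D.f u * D.E g) from h1).pow_right 4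
      rw [D.fE_four hg hu] at h3
      exact h3
    have h3 : h * D.E g = D.E g * h := by
      have h3 : Commute h ((D.f u * D.E g) ^ 3) := (show Commute h (D.f u * D.E g) from h1).pow_right 3
      rw [D.fE_cube hg hu] at h3
      exact h3
    obtain ⟨v, k, hvk⟩ := D.ex h (D.cen' hu0 h2)
    change h = D.f v * D.e k at hvk
    rw [D.e_eq] at hvk
    have hk : sgD k u = u := by
      apply D.f_inj
      rw [← D.Ef k u]
      have h4 : D.E k = (D.f v)⁻¹ * h := by rw [hvk]; group
      rw [h4]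
      calc (D.f v)⁻¹ * h * D.f u * ((D.f v)⁻¹ * h)⁻¹ = (D.f v)⁻¹ * (h * D.f u) * h⁻¹ * D.f v := by group
        _ = (D.f v)⁻¹ * (D.f u * D.f v) := by rw [h2]; group
        _ = D.f u := by rw [D.f_comm]; group
    have hv : sgD g v = v := by
      have h5 : D.E k * D.E g = D.E g * D.E k := by rw [← map_mul, ← map_mul, hstab k hk]
      apply D.f_inj
      rw [← D.Ef g v]
      have h4 : D.f v = h * (D.E k)⁻¹ := by rw [hvk]; group
      calc D.E g * D.f v * (D.E g)⁻¹ = (D.E g * h) * (D.E k)⁻¹ * (D.E g)⁻¹ := by rw [h4]; group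
        _ = h * D.E g * (D.E k)⁻¹ * (D.E g)⁻¹ := by rw [h3]
        _ = h * (D.E g * (D.E g * D.E k)⁻¹) := by group
        _ = h * (D.E g * (D.E k * D.E g)⁻¹) := by rw [h5]
        _ = D.f v := by rw [h4]; group
    exact ⟨(⟨v, hv⟩, ⟨k, hk⟩), Subtype.ext hvk.symm⟩

/-- the four special elements -/
def D9.sp : Fin 4 → G
  | 0 => D.f (1, 0)
  | 1 => D.f (1, 0) * D.t
  | 2 => D.f (1, 1)
  | 3 => D.f (1, 1) * D.s

/-- the orders of their centralizers -/
def spc : Fin 4 → ℕ
  | 0 => 18
  | 1 => 6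
  | 2 => 18
  | 3 => 6

theorem D9.cen_sp (i : Fin 4) : Nat.card (Subgroup.centralizer ({D.sp i} : Set G)) = spc i := by
  fin_cases i
  · change Nat.card (Subgroup.centralizer ({D.f (1, 0)} : Set G)) = 18
    rw [D.card_centralizer (by decide), card_A2, Nat.card_eq_fintype_card]; decide +kernel
  · change Nat.card (Subgroup.centralizer ({D.f (1, 0) * D.E (.sr 2)} : Set G)) = 6
    rw [D.card_cen (by decide) (by decide) (by decide) (by decide), Nat.card_eq_fintype_card, Nat.card_eq_fintype_card]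
    decide +kernel
  · change Nat.card (Subgroup.centralizer ({D.f (1, 1)} : Set G)) = 18
    rw [D.card_centralizer (by decide), card_A2, Nat.card_eq_fintype_card]; decide +kernel
  · change Nat.card (Subgroup.centralizer ({D.f (1, 1) * D.E (.sr 3)} : Set G)) = 6
    rw [D.card_cen (by decide) (by decide) (by decide) (by decide), Nat.card_eq_fintype_card, Nat.card_eq_fintype_card]
    decide +kernel

/-- 4th powers -/
def spv : Fin 4 → A2
  | 0 => (1, 0)
  | 1 => (1, 0)
  | 2 => (1, 1)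
  | 3 => (1, 1)

theorem D9.sp_four (i : Fin 4) : D.sp i ^ 4 = D.f (spv i) := by
  have h : ∀ v : A2, D.f v ^ 4 = D.f v := by
    intro v; rw [pow_succ, D.f_cube, one_mul]
  fin_cases i
  · exact h _
  · exact D.fE_four (by decide) (by decide)
  · exact h _
  · exact D.fE_four (by decide) (by decide)

theorem D9.sp_not_conj {i j : Fin 4} (hij : i ≠ j) : ¬ IsConj (D.sp i) (D.sp j) := by
  intro h
  have h4 : IsConj (D.sp i ^ 4) (D.sp j ^ 4) := h.pow 4
  have hne : ∀ i, spv i ≠ 0 := by decide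
  rw [D.sp_four, D.sp_four, D.isConj_iff_sg (hne i)] at h4
  have h3 : IsConj (D.sp i ^ 3) (D.sp j ^ 3) := h.pow 3
  have h1 : ∀ k, D.sp k ^ 3 = 1 ↔ (k = 0 ∨ k = 2) := by
    intro k
    fin_cases k
    · simp [D9.sp, D.f_cube]
    · have : (D.sp 1) ^ 3 = D.E (.sr 2) := D.fE_cube (by decide) (by decide)
      have h5 := D.E_ne_one (g := .sr 2) (by decide)
      simp [this, h5]
    · simp [D9.sp, D.f_cube]
    · have : (D.sp 3) ^ 3 = D.E (.sr 3) := D.fE_cube (by decide) (by decide)
      have h5 := D.E_ne_one (g := .sr 3) (by decide)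
      simp [this, h5]
  have h2 : (i = 0 ∨ i = 2) ↔ (j = 0 ∨ j = 2) := by
    rw [← h1, ← h1]
    constructor
    · intro h5; rw [h5] at h3; exact isConj_one_right.1 h3
    · intro h5; rw [h5] at h3; exact isConj_one_left.1 h3
  clear h h3 h1
  revert i j
  decide

end

end Cfsg.Agent.Tri3
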