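import Cfsg.Agent.Tri3.Nine.Sec
import Cfsg.Agent.Tri3.TI
import Cfsg.Agent.Tri3.Coord

/-!
# The group `3² : D₈` in coordinates
-/

set_option autoImplicit false
set_option linter.unusedSectionVars false

namespace Cfsg.Agent.Tri3

open Multiplicative

/-- the elementary abelian group of order 9 -/
abbrev A2 := ZMod 3 × ZMod 3

/-- rotation -/
def rotA (v : A2) : A2 := (v.2, -v.1)

/-- the signed permutations -/
def sgD : DihedralGroup 4 → A2 → A2
  | .r i, v => rotA^[i.val] v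
  | .sr i, v => (-(rotA^[i.val] v).1, (rotA^[i.val] v).2)

/-- data for the subgroup `3² : D₈` -/
structure D9 {G : Type*} [Group G] (H : Subgroup G) extends TI H sgD where
  E : DihedralGroup 4 →* G
  e_eq : ∀ g, e g = E g

section

variable {G : Type*} [Group G] {S : Subgroup G} (hab : ∀ x ∈ S, ∀ y ∈ S, x * y = y * x)
  (hcen : ∀ g : G, (∀ x ∈ S, g * x = x * g) → g ∈ S)
  {E : DihedralGroup 4 →* G} (hnor : ∀ g, ∀ x ∈ S, E g * x * (E g)⁻¹ ∈ S) (hinj : ∀ g, E g ∈ S → g = 1)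

include hcen hinj in
theorem faithful {g g' : DihedralGroup 4} (h : ∀ x ∈ S, E g * x * (E g)⁻¹ = E g' * x * (E g')⁻¹) : g = g' := by
  have h1 : E (g'⁻¹ * g) ∈ S := by
    apply hcen
    intro x hx
    have := h x hx
    rw [map_mul, map_inv]
    calc (E g')⁻¹ * E g * x = (E g')⁻¹ * (E g * x * (E g)⁻¹) * E g := by group
      _ = (E g')⁻¹ * (E g' * x * (E g')⁻¹) * E g := by rw [this]
      _ = x * ((E g')⁻¹ * E g) := by group
  have h2 := hinj _ h1
  exact (inv_mul_eq_one.1 h2).symm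

include hab hcen hinj hnor in
theorem exponent_three [Finite G] (hcard : Nat.card S = 9) : ∀ x ∈ S, x ^ 3 = 1 := by
  by_contra hcon
  push Not at hcon
  obtain ⟨x, hx, hx3⟩ := hcon
  -- `x` generates `S`
  have hord : orderOf (⟨x, hx⟩ : S) = 9 := by
    have h1 : orderOf (⟨x, hx⟩ : S) ∣ 3 ^ 2 := by
      have := orderOf_dvd_natCard (⟨x, hx⟩ : S)
      rw [hcard] at this
      exact this
    rw [Nat.dvd_prime_pow Nat.prime_three] at h1
    obtain ⟨k, hk, hk'⟩ := h1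
    interval_cases k
    · exfalso; apply hx3
      have := orderOf_dvd_iff_pow_eq_one.1 (show orderOf (⟨x, hx⟩ : S) ∣ 3 by rw [hk']; norm_num)
      exact congrArg Subtype.val this
    · exfalso; apply hx3
      have := orderOf_dvd_iff_pow_eq_one.1 (show orderOf (⟨x, hx⟩ : S) ∣ 3 by rw [hk']; norm_num)
      exact congrArg Subtype.val this
    · exact hk'
  have hgen : ∀ y ∈ S, ∃ i : ℤ, y = x ^ i := by
    intro y hy
    have h1 : (Subgroup.zpowers (⟨x, hx⟩ : S)) = ⊤ := by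
      apply Subgroup.eq_top_of_card_eq
      rw [Nat.card_zpowers, hord, hcard]
    have h2 : (⟨y, hy⟩ : S) ∈ Subgroup.zpowers (⟨x, hx⟩ : S) := by rw [h1]; trivial
    obtain ⟨i, hi⟩ := Subgroup.mem_zpowers_iff.1 h2
    exact ⟨i, (congrArg Subtype.val hi).symm⟩
  -- `E g` acts by powers, so the action is abelian
  have hact : ∀ g, ∃ i : ℤ, ∀ y ∈ S, E g * y * (E g)⁻¹ = y ^ i := by
    intro g
    obtain ⟨i, hi⟩ := hgen _ (hnor g x hx)
    refine ⟨i, fun y hy => ?_⟩
    obtain ⟨j, rfl⟩ := hgen y hy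
    rw [← conj_zpow, hi, ← zpow_mul, ← zpow_mul, mul_comm]
  obtain ⟨i, hi⟩ := hact (.r 1)
  obtain ⟨j, hj⟩ := hact (.sr 0)
  have h1 : (DihedralGroup.r (1 : ZMod 4)) * .sr 0 = .sr 0 * .r 1 := by
    apply faithful hcen hinj
    intro y hy
    have e : ∀ a b : G, a * b * y * (a * b)⁻¹ = a * (b * y * b⁻¹) * a⁻¹ := by intro a b; group
    rw [map_mul, map_mul, e, e, hi y hy, hj y hy, hi _ (Subgroup.zpow_mem _ hy _), hj _ (Subgroup.zpow_mem _ hy _),
      ← zpow_mul, ← zpow_mul, mul_comm]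
  exact absurd h1 (by decide)

include hab hcen hinj hnor in
theorem inversion [Finite G] (hcard : Nat.card S = 9) : ∀ x ∈ S, E (.r 2) * x * (E (.r 2))⁻¹ = x⁻¹ := by
  have hexp := exponent_three hab hcen hnor hinj hcard
  set z := E (.r 2) with hz
  have hzz : z * z = 1 := by rw [hz, ← map_mul]; exact (map_one E ▸ congrArg E (by decide))
  -- the inverted elements
  let Ei : Subgroup G :=
    { carrier := {x | x ∈ S ∧ z * x * z⁻¹ = x⁻¹}
      one_mem' := ⟨S.one_mem, by group⟩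
      mul_mem' := by
        rintro x y ⟨hx, hx'⟩ ⟨hy, hy'⟩
        refine ⟨S.mul_mem hx hy, ?_⟩
        have : z * (x * y) * z⁻¹ = (z * x * z⁻¹) * (z * y * z⁻¹) := by group
        rw [this, hx', hy', mul_inv_rev]
        exact hab _ (S.inv_mem hx) _ (S.inv_mem hy)
      inv_mem' := by
        rintro x ⟨hx, hx'⟩
        refine ⟨S.inv_mem hx, ?_⟩
        have : z * x⁻¹ * z⁻¹ = (z * x * z⁻¹)⁻¹ := by group
        rw [this, hx'] }
  have hEi : Ei ≤ S := fun x hx => hx.1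
  -- commutators lie in `Ei`
  have hcomm : ∀ x ∈ S, x⁻¹ * (z * x * z⁻¹) ∈ Ei := by
    intro x hx
    refine ⟨S.mul_mem (S.inv_mem hx) (hnor _ x hx), ?_⟩
    have e1 : z * (x⁻¹ * (z * x * z⁻¹)) * z⁻¹ = (z * x * z⁻¹)⁻¹ * ((z * z) * x * (z * z)⁻¹) := by group
    rw [e1, hzz, mul_inv_rev]
    simp
  have hne : Ei ≠ ⊥ := by
    intro h
    have h1 : ∀ x ∈ S, z * x * z⁻¹ = x := by
      intro x hx
      have := hcomm x hx
      rw [h, Subgroup.mem_bot] at this
      exact (inv_mul_eq_one.1 this).symm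
    have h2 : DihedralGroup.r (2 : ZMod 4) = 1 := by
      apply faithful hcen hinj
      intro x hx
      rw [map_one, one_mul, inv_one, mul_one]
      exact h1 x hx
    exact absurd h2 (by decide)
  have hdvd : Nat.card Ei ∣ 3 ^ 2 := by
    have := Subgroup.card_dvd_of_le hEi
    rw [hcard] at this; exact this
  have hcomz : ∀ g, E g * z = z * E g := by
    intro g
    rw [hz, ← map_mul, ← map_mul]
    congr 1
    revert g
    decide
  rw [Nat.dvd_prime_pow Nat.prime_three] at hdvd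
  obtain ⟨k, hk, hk'⟩ := hdvd
  interval_cases k
  · exact absurd (Subgroup.card_eq_one.1 hk') hne
  · exfalso
    -- `r` normalizes the group `Ei` of order 3, so `r²` centralizes it
    obtain ⟨w, hw, hw1⟩ := (Subgroup.bot_or_exists_ne_one Ei).resolve_left hne
    have hrw : E (.r 1) * w * (E (.r 1))⁻¹ ∈ Ei := by
      refine ⟨hnor _ w hw.1, ?_⟩
      have e1 : z * (E (.r 1) * w * (E (.r 1))⁻¹) * z⁻¹ = (z * E (.r 1)) * w * (z * E (.r 1))⁻¹ := by group
      rw [e1, ← hcomz]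
      have e2 : E (.r 1) * z * w * (E (.r 1) * z)⁻¹ = E (.r 1) * (z * w * z⁻¹) * (E (.r 1))⁻¹ := by group
      rw [e2, hw.2]; group
    have hmem : ∀ y ∈ Ei, y = 1 ∨ y = w ∨ y = w⁻¹ := by
      have hordw : orderOf (⟨w, hw⟩ : Ei) = 3 := by
        have h1 : orderOf (⟨w, hw⟩ : Ei) ∣ 3 := by
          have := orderOf_dvd_natCard (⟨w, hw⟩ : Ei)
          rw [hk'] at this; exact this
        rcases (Nat.dvd_prime Nat.prime_three).1 h1 with h | h
        · exfalso; exact hw1 (congrArg Subtype.val (orderOf_eq_one_iff.1 h))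
        · exact h
      intro y hy
      have h1 : (Subgroup.zpowers (⟨w, hw⟩ : Ei)) = ⊤ := by
        apply Subgroup.eq_top_of_card_eq
        rw [Nat.card_zpowers, hordw, hk']; rfl
      have h2 : (⟨y, hy⟩ : Ei) ∈ Subgroup.zpowers (⟨w, hw⟩ : Ei) := by rw [h1]; trivial
      obtain ⟨i, hi⟩ := Subgroup.mem_zpowers_iff.1 h2
      have hi' : w ^ i = y := congrArg Subtype.val hi
      have hw3 : w ^ (3 : ℤ) = 1 := by exact_mod_cast hexp w hw.1
      rw [← Int.mul_ediv_add_emod i 3, zpow_add, zpow_mul, hw3, one_zpow, one_mul] at hi'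
      have h3 := Int.emod_nonneg i (show (3 : ℤ) ≠ 0 by norm_num)
      have h4 := Int.emod_lt_of_pos i (show (0 : ℤ) < 3 by norm_num)
      rw [← hi']
      interval_cases (i % 3)
      · left; simp
      · right; left; simp
      · right; right
        have : w ^ (2 : ℤ) * w = 1 := by
          rw [← zpow_add_one]; exact hw3
        exact eq_inv_of_mul_eq_one_left this
    have hzw : z * w * z⁻¹ = w := by
      have e1 : z * w * z⁻¹ = E (.r 1) * (E (.r 1) * w * (E (.r 1))⁻¹) * (E (.r 1))⁻¹ := by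
        have : z = E (.r 1) * E (.r 1) := by rw [hz, ← map_mul]; congr 1
        rw [this]; group
      rw [e1]
      rcases hmem _ hrw with h | h | h
      · exfalso
        apply hw1
        calc w = (E (.r 1))⁻¹ * (E (.r 1) * w * (E (.r 1))⁻¹) * E (.r 1) := by group
          _ = 1 := by rw [h]; group
      · rw [h, h]
      · have e2 : E (.r 1) * (E (.r 1) * w * (E (.r 1))⁻¹) * (E (.r 1))⁻¹ = E (.r 1) * w⁻¹ * (E (.r 1))⁻¹ := by rw [h]
        rw [e2]
        have e3 : E (.r 1) * w⁻¹ * (E (.r 1))⁻¹ = (E (.r 1) * w * (E (.r 1))⁻¹)⁻¹ := by group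
        rw [e3, h, inv_inv]
    have h5 : w = w⁻¹ := hzw.symm.trans hw.2
    apply hw1
    have h6 : w * w = 1 := by
      calc w * w = w * w⁻¹ := by rw [← h5]
        _ = 1 := mul_inv_cancel w
    have h7 := hexp w hw.1
    rw [pow_succ, pow_two, h6, one_mul] at h7
    exact h7
  · have : Ei = S := by
      apply Subgroup.eq_of_le_of_card_ge hEi
      rw [hcard, hk']; norm_num
    intro x hx
    rw [← this] at hx
    exact hx.2

include hab hcen hinj hnor in
theorem exists_basis [Finite G] (hcard : Nat.card S = 9) : ∃ x ∈ S, ∃ y ∈ S, x ≠ 1 ∧ y ≠ 1 ∧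
    E (.sr 0) * x * (E (.sr 0))⁻¹ = x⁻¹ ∧ E (.sr 0) * y * (E (.sr 0))⁻¹ = y ∧
    E (.r 1) * x * (E (.r 1))⁻¹ = y⁻¹ ∧ E (.r 1) * y * (E (.r 1))⁻¹ = x := by
  have hinv := inversion hab hcen hnor hinj hcard
  have hss : E (.sr 0) * E (.sr 0) = 1 := by
    rw [← map_mul, ← map_one E]; congr 1
  obtain ⟨u, hu, hu1⟩ : ∃ u ∈ S, u * (E (.sr 0) * u * (E (.sr 0))⁻¹) ≠ 1 := by
    by_contra hcon
    push Not at hcon
    have h1 : DihedralGroup.sr (0 : ZMod 4) = .r 2 := by
      apply faithful hcen hinj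
      intro x hx
      rw [hinv x hx]
      exact (inv_eq_of_mul_eq_one_right (hcon x hx)).symm
    exact absurd h1 (by decide)
  set y := u * (E (.sr 0) * u * (E (.sr 0))⁻¹) with hy
  have hyS : y ∈ S := S.mul_mem hu (hnor _ u hu)
  have hsy : E (.sr 0) * y * (E (.sr 0))⁻¹ = y := by
    have e1 : E (.sr 0) * y * (E (.sr 0))⁻¹ =
        (E (.sr 0) * u * (E (.sr 0))⁻¹) * ((E (.sr 0) * E (.sr 0)) * u * (E (.sr 0) * E (.sr 0))⁻¹) := by
      rw [hy]; group
    rw [e1, hss, one_mul, inv_one, mul_one, hy]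
    exact hab _ (hnor _ u hu) _ hu
  have hr1 : E (.sr 0) * E (.r 1) = (E (.r 1))⁻¹ * E (.sr 0) := by
    rw [← map_inv, ← map_mul, ← map_mul]; congr 1
  have hr2 : E (.r 2) = E (.r 1) * E (.r 1) := by rw [← map_mul]; congr 1
  refine ⟨E (.r 1) * y * (E (.r 1))⁻¹, hnor _ y hyS, y, hyS, ?_, hu1, ?_, hsy, ?_, rfl⟩
  · intro h
    apply hu1
    calc y = (E (.r 1))⁻¹ * (E (.r 1) * y * (E (.r 1))⁻¹) * E (.r 1) := by group
      _ = 1 := by rw [h]; group
  · have e1 : E (.sr 0) * (E (.r 1) * y * (E (.r 1))⁻¹) * (E (.sr 0))⁻¹ =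
        (E (.sr 0) * E (.r 1)) * y * (E (.sr 0) * E (.r 1))⁻¹ := by group
    rw [e1, hr1]
    have e2 : (E (.r 1))⁻¹ * E (.sr 0) * y * ((E (.r 1))⁻¹ * E (.sr 0))⁻¹ =
        (E (.r 1))⁻¹ * (E (.sr 0) * y * (E (.sr 0))⁻¹) * E (.r 1) := by group
    rw [e2, hsy]
    have e3 := hinv y hyS
    rw [hr2] at e3
    have e4 : (E (.r 1))⁻¹ * y * E (.r 1) = (E (.r 1))⁻¹ * (E (.r 1) * E (.r 1) * y * (E (.r 1) * E (.r 1))⁻¹)⁻¹ * E (.r 1) := by
      rw [e3, inv_inv]
    rw [e4]; group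
  · have e3 := hinv y hyS
    rw [hr2] at e3
    rw [← e3]; group

end

section

variable {G : Type*} [Group G] {E : DihedralGroup 4 →* G} {x y : G}
  (hx3 : x ^ 3 = 1) (hy3 : y ^ 3 = 1) (hxy : x * y = y * x)

/-- the coordinates -/
def F2 (hx3 : x ^ 3 = 1) (hy3 : y ^ 3 = 1) (hxy : x * y = y * x) : Multiplicative A2 →* G where
  toFun v := x ^ v.toAdd.1.val * y ^ v.toAdd.2.val
  map_one' := by simp
  map_mul' v w := by
    have h1 : ∀ i j : ℕ, x ^ i * y ^ j = y ^ j * x ^ i := fun i j => (show Commute x y from hxy).pow_pow i j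
    simp only [toAdd_mul, Prod.fst_add, Prod.snd_add]
    rw [pow_val_add hx3, pow_val_add hy3]
    generalize (Multiplicative.toAdd v).1.val = i1
    generalize (Multiplicative.toAdd v).2.val = i2
    generalize (Multiplicative.toAdd w).1.val = j1
    generalize (Multiplicative.toAdd w).2.val = j2
    calc x ^ i1 * x ^ j1 * (y ^ i2 * y ^ j2) = x ^ i1 * (x ^ j1 * y ^ i2) * y ^ j2 := by group
      _ = _ := by rw [h1 j1 i2]; group

theorem F2_apply (a b : ZMod 3) : F2 hx3 hy3 hxy (ofAdd (a, b)) = x ^ a.val * y ^ b.val := rfl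

variable (h1 : E (.sr 0) * x * (E (.sr 0))⁻¹ = x⁻¹) (h2 : E (.sr 0) * y * (E (.sr 0))⁻¹ = y)
    (h3 : E (.r 1) * x * (E (.r 1))⁻¹ = y⁻¹) (h4 : E (.r 1) * y * (E (.r 1))⁻¹ = x)

include h3 h4 in
theorem F2_rot (v : A2) : E (.r 1) * F2 hx3 hy3 hxy (ofAdd v) * (E (.r 1))⁻¹ = F2 hx3 hy3 hxy (ofAdd (rotA v)) := by
  obtain ⟨a, b⟩ := v
  change _ = F2 hx3 hy3 hxy (ofAdd (b, -a))
  rw [F2_apply, F2_apply]
  have e1 : E (.r 1) * (x ^ a.val * y ^ b.val) * (E (.r 1))⁻¹ =
      (E (.r 1) * x ^ a.val * (E (.r 1))⁻¹) * (E (.r 1) * y ^ b.val * (E (.r 1))⁻¹) := by group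
  rw [e1, ← conj_pow, ← conj_pow, h3, h4, pow_val_neg hy3, inv_pow]
  exact ((show Commute y x from hxy.symm).pow_pow _ _).inv_left.eq

include h1 h2 in
theorem F2_ref (v : A2) : E (.sr 0) * F2 hx3 hy3 hxy (ofAdd v) * (E (.sr 0))⁻¹ =
    F2 hx3 hy3 hxy (ofAdd (-v.1, v.2)) := by
  obtain ⟨a, b⟩ := v
  rw [F2_apply, F2_apply]
  have e1 : E (.sr 0) * (x ^ a.val * y ^ b.val) * (E (.sr 0))⁻¹ =
      (E (.sr 0) * x ^ a.val * (E (.sr 0))⁻¹) * (E (.sr 0) * y ^ b.val * (E (.sr 0))⁻¹) := by group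
  rw [e1, ← conj_pow, ← conj_pow, h1, h2, pow_val_neg hx3, inv_pow]

include h3 h4 in
theorem F2_rot_iter (k : ℕ) (v : A2) : E (.r 1) ^ k * F2 hx3 hy3 hxy (ofAdd v) * (E (.r 1) ^ k)⁻¹ =
    F2 hx3 hy3 hxy (ofAdd (rotA^[k] v)) := by
  induction k generalizing v with
  | zero => simp
  | succ k ih =>
    rw [Function.iterate_succ_apply, ← ih (rotA v), ← F2_rot hx3 hy3 hxy h3 h4 v, pow_succ]
    group

include h1 h2 h3 h4 in
theorem F2_sg (g : DihedralGroup 4) (v : A2) : E g * F2 hx3 hy3 hxy (ofAdd v) * (E g)⁻¹ =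
    F2 hx3 hy3 hxy (ofAdd (sgD g v)) := by
  have hr : ∀ i : ZMod 4, E (.r i) = E (.r 1) ^ i.val := by
    intro i
    rw [← map_pow, DihedralGroup.r_one_pow, ZMod.natCast_zmod_val]
  rcases g with i | i
  · rw [hr]
    exact F2_rot_iter hx3 hy3 hxy h3 h4 _ v
  · have e1 : E (.sr i) = E (.sr 0) * E (.r 1) ^ i.val := by
      rw [← hr, ← map_mul, DihedralGroup.sr_mul_r, zero_add]
    have e2 : E (.sr i) * F2 hx3 hy3 hxy (ofAdd v) * (E (.sr i))⁻¹ =
        E (.sr 0) * (E (.r 1) ^ i.val * F2 hx3 hy3 hxy (ofAdd v) * (E (.r 1) ^ i.val)⁻¹) * (E (.sr 0))⁻¹ := by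
      rw [e1]; group
    rw [e2, F2_rot_iter hx3 hy3 hxy h3 h4, F2_ref hx3 hy3 hxy h1 h2]
    rfl

include h1 h2 in
theorem F2_injective (hx1 : x ≠ 1) (hy1 : y ≠ 1) : Function.Injective (F2 hx3 hy3 hxy) := by
  rw [injective_iff_map_eq_one]
  intro v hv
  obtain ⟨a, b⟩ := v
  change F2 hx3 hy3 hxy (ofAdd (a, b)) = 1 at hv
  have hpow : ∀ (w : G), w ^ 3 = 1 → w ≠ 1 → ∀ c : ZMod 3, w ^ c.val = 1 → c = 0 := by
    intro w hw3 hw1 c hc
    have h : ∀ c : ZMod 3, c = 0 ∨ c = 1 ∨ c = 2 := by decide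
    rcases h c with rfl | rfl | rfl
    · rfl
    · exfalso; apply hw1
      have : (1 : ZMod 3).val = 1 := rfl
      rw [this, pow_one] at hc; exact hc
    · exfalso; apply hw1
      have : (2 : ZMod 3).val = 2 := rfl
      rw [this] at hc
      rw [pow_succ, hc, one_mul] at hw3; exact hw3
  have hs := F2_ref hx3 hy3 hxy h1 h2 (a, b)
  rw [hv, mul_one, mul_inv_cancel] at hs
  rw [F2_apply] at hv
  have hs' : x ^ (-a).val * y ^ b.val = 1 := by rw [← F2_apply hx3 hy3 hxy]; exact hs.symm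
  have h5 : x ^ a.val = x ^ (-a).val := mul_right_cancel (hv.trans hs'.symm)
  rw [pow_val_neg hx3] at h5
  have h6 : x ^ a.val = 1 := by
    have h7 : (x ^ a.val) ^ 3 = 1 := by rw [← pow_mul, mul_comm, pow_mul, hx3, one_pow]
    have h8 : x ^ a.val * x ^ a.val = 1 := by
      nth_rewrite 2 [h5]; exact mul_inv_cancel _
    rw [pow_succ, pow_two, h8, one_mul] at h7
    exact h7
  have ha := hpow x hx3 hx1 a h6
  rw [h6, one_mul] at hv
  have hb := hpow y hy3 hy1 b hv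
  rw [ha, hb]
  rfl

end

/-- existence of the coordinates -/
theorem exists_D9 {G : Type*} [Group G] [Finite G] (S : Subgroup G) (hcard : Nat.card S = 9)
    (hC : Subgroup.centralizer (S : Set G) = S)
    (eN : Subgroup.normalizer (S : Set G) ⧸ S.subgroupOf (Subgroup.normalizer (S : Set G)) ≃* DihedralGroup 4)
    (hcent : ∀ x ∈ S, x ≠ 1 → Subgroup.centralizer ({x} : Set G) ≤ Subgroup.normalizer (S : Set G)) :
    ∃ D : D9 (Subgroup.normalizer (S : Set G)), D.φ.range = S := by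
  obtain ⟨E, hEH, hex, hinj⟩ := exists_section S hcard eN
  have hcen : ∀ g : G, (∀ x ∈ S, g * x = x * g) → g ∈ S := by
    intro g hg
    rw [← hC, Subgroup.mem_centralizer_iff]
    intro x hx
    exact (hg x hx).symm
  have hab : ∀ x ∈ S, ∀ y ∈ S, x * y = y * x := by
    intro x hx y hy
    rw [← hC, Subgroup.mem_centralizer_iff] at hx
    exact (hx y hy).symm
  have hnor : ∀ g, ∀ x ∈ S, E g * x * (E g)⁻¹ ∈ S := by
    intro g x hx
    exact (Subgroup.mem_normalizer_iff.1 (hEH g) x).1 hx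
  have hexp := exponent_three hab hcen hnor hinj hcard
  obtain ⟨x, hx, y, hy, hx1, hy1, h1, h2, h3, h4⟩ := exists_basis hab hcen hnor hinj hcard
  have hxy := hab x hx y hy
  have hx3 := hexp x hx
  have hy3 := hexp y hy
  have hFinj := F2_injective hx3 hy3 hxy h1 h2 hx1 hy1
  have hrange : (F2 hx3 hy3 hxy).range = S := by
    apply Subgroup.eq_of_le_of_card_ge
    · rintro _ ⟨v, rfl⟩
      exact S.mul_mem (S.pow_mem hx _) (S.pow_mem hy _)
    · rw [hcard]
      have h5 : Nat.card (Multiplicative A2) = 9 := by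
        change Nat.card A2 = 9
        simp [Nat.card_eq_fintype_card, ZMod.card]
      have h6 : Nat.card (F2 hx3 hy3 hxy).range = Nat.card (Multiplicative A2) :=
        Nat.card_congr (MonoidHom.ofInjective hFinj).toEquiv.symm
      rw [h6, h5]
  have hsg := F2_sg hx3 hy3 hxy h1 h2 h3 h4
  refine ⟨{ φ := F2 hx3 hy3 hxy, inj := hFinj, e := E, memφ := ?_, meme := hEH, cj := hsg, ex := ?_,
            cube := by decide, mem_of_cube := ?_, nor := ?_, cen := ?_, sg_inj := by decide, E := E,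
            e_eq := fun _ => rfl }, hrange⟩
  · intro v
    apply Subgroup.le_normalizer
    rw [← hrange]
    exact ⟨v, rfl⟩
  · intro h hh
    obtain ⟨v, hv, g, rfl⟩ := hex h hh
    rw [← hrange] at hv
    obtain ⟨v, rfl⟩ := hv
    exact ⟨v.toAdd, g, rfl⟩
  · intro h hh h3'
    obtain ⟨v, hv, g, rfl⟩ := hex h hh
    -- the image in the quotient is trivial
    have key : ∀ n : ℕ, ∃ w ∈ S, (v * E g) ^ n = w * E (g ^ n) := by
      intro n
      induction n with
      | zero => exact ⟨1, S.one_mem, by simp⟩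
      | succ n ih =>
        obtain ⟨w, hw, hwn⟩ := ih
        refine ⟨w * (E (g ^ n) * v * (E (g ^ n))⁻¹), S.mul_mem hw (hnor _ v hv), ?_⟩
        rw [pow_succ, hwn, pow_succ, map_mul]; group
    obtain ⟨w, hw, hwn⟩ := key 3
    rw [h3'] at hwn
    have hg3 : g ^ 3 = 1 := by
      apply hinj
      have : E (g ^ 3) = w⁻¹ := (inv_eq_of_mul_eq_one_right hwn.symm).symm
      rw [this]; exact S.inv_mem hw
    have hg8 : g ^ 8 = 1 := by
      have := pow_card_eq_one' (x := g)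
      rw [Nat.card_eq_fintype_card, DihedralGroup.card] at this
      exact this
    have hg : g = 1 := by
      calc g = (g ^ 3) ^ 3 * (g ^ 8)⁻¹ := by group
        _ = 1 := by rw [hg3, hg8]; simp
    rw [hg, map_one, mul_one]
    rw [← hrange] at hv
    obtain ⟨v, rfl⟩ := hv
    exact ⟨v.toAdd, rfl⟩
  · rw [hrange]
  · intro v hv
    apply hcent
    · rw [← hrange]; exact ⟨_, rfl⟩
    · intro h
      rw [← map_one (F2 hx3 hy3 hxy)] at h
      exact hv (ofAdd.injective (hFinj h))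

end Cfsg.Agent.Tri3
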