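import Cfsg.Agent.Tri3.Nine.Types

/-!
# The equations for the signed degrees
-/

set_option autoImplicit false
set_option linter.unusedSectionVars false
set_option maxHeartbeats 1000000

open scoped ComplexConjugate
open Cfsg Cfsg.Agent.CharBase

namespace Cfsg.Agent.Tri3

section

variable {G : Type*} [Group G] [Finite G] {H : Subgroup G} {D : D9 H} (R : Typed D) [Fintype (IrrCharacter G)]

/-- the irreducible characters of a given type -/
def Typed.fib (t : Fin 16) : Finset (IrrCharacter G) := Finset.univ.filter (fun χ => R.ty χ = t)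

theorem Typed.mem_fib {t : Fin 16} {χ : IrrCharacter G} : χ ∈ R.fib t ↔ R.ty χ = t := by
  unfold Typed.fib; simp

/-- power sums -/
def Typed.SD (t : Fin 16) : ℤ := ∑ χ ∈ R.fib t, R.sd χ
def Typed.SS (t : Fin 16) : ℤ := ∑ χ ∈ R.fib t, R.sd χ ^ 2
def Typed.SI (t : Fin 16) : ℚ := ∑ χ ∈ R.fib t, 1 / (R.sd χ : ℚ)

theorem Typed.fib_zero {t : Fin 16} (h : R.N t = 0) : R.fib t = ∅ := by
  unfold Typed.N at h
  have : (Finset.univ.filter (fun χ => R.ty χ = t)).card = 0 := by exact_mod_cast h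
  exact Finset.card_eq_zero.1 this

theorem Typed.fib_one {t : Fin 16} (h : R.N t = 1) : ∃ χ, R.fib t = {χ} := by
  unfold Typed.N at h
  have : (Finset.univ.filter (fun χ => R.ty χ = t)).card = 1 := by exact_mod_cast h
  exact Finset.card_eq_one.1 this

theorem Typed.SD_zero {t : Fin 16} (h : R.N t = 0) : R.SD t = 0 := by
  unfold Typed.SD; rw [R.fib_zero h]; simp
theorem Typed.SS_zero {t : Fin 16} (h : R.N t = 0) : R.SS t = 0 := by
  unfold Typed.SS; rw [R.fib_zero h]; simp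
theorem Typed.SI_zero {t : Fin 16} (h : R.N t = 0) : R.SI t = 0 := by
  unfold Typed.SI; rw [R.fib_zero h]; simp

theorem Typed.one_of {t : Fin 16} (h : R.N t = 1) : ∃ χ, R.fib t = {χ} ∧ R.ty χ = t ∧ R.SD t = R.sd χ ∧ R.SS t = R.sd χ ^ 2 ∧
    R.SI t = 1 / (R.sd χ : ℚ) := by
  obtain ⟨χ, hχ⟩ := R.fib_one h
  refine ⟨χ, hχ, ?_, ?_, ?_, ?_⟩
  · rw [← R.mem_fib, hχ]; simp
  · unfold Typed.SD; rw [hχ]; simp
  · unfold Typed.SS; rw [hχ]; simp
  · unfold Typed.SI; rw [hχ]; simp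

theorem Typed.two_of {t : Fin 16} (h : R.N t = 2) : ∃ χ ψ, χ ≠ ψ ∧ (∀ φ, R.ty φ = t → φ = χ ∨ φ = ψ) ∧ R.ty χ = t ∧ R.ty ψ = t ∧
    R.SD t = R.sd χ + R.sd ψ ∧ R.SS t = R.sd χ ^ 2 + R.sd ψ ^ 2 ∧ R.SI t = 1 / (R.sd χ : ℚ) + 1 / (R.sd ψ : ℚ) := by
  classical
  obtain ⟨χ, ψ, hne, hχ⟩ : ∃ χ ψ, χ ≠ ψ ∧ R.fib t = {χ, ψ} := by
    unfold Typed.N at h
    have h' : (Finset.univ.filter (fun χ => R.ty χ = t)).card = 2 := by exact_mod_cast h
    obtain ⟨x, y, h1, h2⟩ := Finset.card_eq_two.1 h'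
    exact ⟨x, y, h1, by rw [← h2]; rfl⟩
  refine ⟨χ, ψ, hne, ?_, ?_, ?_, ?_, ?_, ?_⟩
  · intro φ hφ
    rw [← R.mem_fib, hχ] at hφ
    simpa using hφ
  · rw [← R.mem_fib, hχ]; simp
  · rw [← R.mem_fib, hχ]; simp
  · unfold Typed.SD; rw [hχ, Finset.sum_pair hne]
  · unfold Typed.SS; rw [hχ, Finset.sum_pair hne]
  · unfold Typed.SI; rw [hχ, Finset.sum_pair hne]

theorem Typed.fiberwise {M : Type*} [AddCommMonoid M] (F : IrrCharacter G → M) : ∑ χ, F χ = ∑ t, ∑ χ ∈ R.fib t, F χ := by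
  unfold Typed.fib
  exact (Finset.sum_fiberwise Finset.univ R.ty F).symm

theorem Typed.degS (i : Fin 4) : ∑ t, R.SD t * TT t i = 0 := by
  rw [← R.toRows.orth_deg i, R.fiberwise]
  refine Finset.sum_congr rfl fun t _ => ?_
  unfold Typed.SD
  rw [Finset.sum_mul]
  refine Finset.sum_congr rfl fun χ hχ => ?_
  rw [R.mem_fib] at hχ
  rw [R.hty, hχ]
  unfold Typed.sd
  ring

theorem Typed.sqS : ∑ t, R.SS t = (Nat.card G : ℤ) := by
  rw [← R.toRows.sum_sq, R.fiberwise]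
  refine Finset.sum_congr rfl fun t _ => ?_
  unfold Typed.SS
  refine Finset.sum_congr rfl fun χ _ => ?_
  unfold Typed.sd
  have := R.εε χ
  linear_combination R.d χ ^ 2 * this

theorem Typed.SS_nonneg (t : Fin 16) : 0 ≤ R.SS t := Finset.sum_nonneg fun _ _ => sq_nonneg _

/-- triple products -/
theorem Typed.tripleS (i j k : Fin 4) : (Nat.card G : ℂ) * ∑ χ : IrrCharacter G, (χ : G → ℂ) (D.sp i) * (χ : G → ℂ) (D.sp j) *
    conj ((χ : G → ℂ) (D.sp k)) / (χ : G → ℂ) 1 =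
    ((Nat.card G * ∑ t, R.SI t * (TT t i * TT t j * TT t k) : ℚ) : ℂ) := by
  push_cast
  congr 1
  rw [R.fiberwise]
  refine Finset.sum_congr rfl fun t _ => ?_
  unfold Typed.SI
  push_cast
  rw [Finset.sum_mul]
  refine Finset.sum_congr rfl fun χ hχ => ?_
  rw [R.mem_fib] at hχ
  rw [R.toRows.conj_sp, R.hr, R.hr, R.hr, R.hd, R.hty, R.hty, R.hty, hχ]
  unfold Typed.sd
  have h1 := R.dpos χ
  have h2 : (R.d χ : ℂ) ≠ 0 := by
    have : R.d χ ≠ 0 := by omega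
    exact_mod_cast this
  rcases R.hε χ with h | h <;> rw [h] <;> push_cast <;> field_simp

theorem card_AAB : Nat.card {p : G × G // IsConj (D.f (1, 0)) p.1 ∧ IsConj (D.f (1, 0)) p.2 ∧ p.1 * p.2 = D.f (1, 1)} = 2 := by
  rw [D.card_triples (by decide) (by decide) (by decide) (by decide), Nat.card_eq_fintype_card]; decide +kernel

theorem card_ABB : Nat.card {p : G × G // IsConj (D.f (1, 0)) p.1 ∧ IsConj (D.f (1, 1)) p.2 ∧ p.1 * p.2 = D.f (1, 1)} = 2 := by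
  rw [D.card_triples (by decide) (by decide) (by decide) (by decide), Nat.card_eq_fintype_card]; decide +kernel

theorem Typed.aab : (Nat.card G : ℚ) * ∑ t, R.SI t * (TT t 0 * TT t 0 * TT t 2) = 648 := by
  have h1 := class_const (D.f (1, 0)) (D.f (1, 0)) (D.f (1, 1))
  have h2 := R.tripleS 0 0 2
  have h3 : Nat.card (Subgroup.centralizer ({D.f (1, 0)} : Set G)) = 18 := D.cen_sp 0
  rw [card_AAB, h3] at h1
  change (Nat.card G : ℂ) * ∑ χ : IrrCharacter G, (χ : G → ℂ) (D.f (1, 0)) * (χ : G → ℂ) (D.f (1, 0)) *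
    conj ((χ : G → ℂ) (D.f (1, 1))) / (χ : G → ℂ) 1 = _ at h2
  rw [h1] at h2
  have h4 : ((648 : ℚ) : ℂ) = (((Nat.card G : ℚ) * ∑ t, R.SI t * (TT t 0 * TT t 0 * TT t 2) : ℚ) : ℂ) := by
    rw [← h2]; push_cast; norm_num
  exact_mod_cast h4.symm

theorem Typed.abb : (Nat.card G : ℚ) * ∑ t, R.SI t * (TT t 0 * TT t 2 * TT t 2) = 648 := by
  have h1 := class_const (D.f (1, 0)) (D.f (1, 1)) (D.f (1, 1))
  have h2 := R.tripleS 0 2 2
  have h3 : Nat.card (Subgroup.centralizer ({D.f (1, 0)} : Set G)) = 18 := D.cen_sp 0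
  have h3' : Nat.card (Subgroup.centralizer ({D.f (1, 1)} : Set G)) = 18 := D.cen_sp 2
  rw [card_ABB, h3, h3'] at h1
  change (Nat.card G : ℂ) * ∑ χ : IrrCharacter G, (χ : G → ℂ) (D.f (1, 0)) * (χ : G → ℂ) (D.f (1, 1)) *
    conj ((χ : G → ℂ) (D.f (1, 1))) / (χ : G → ℂ) 1 = _ at h2
  rw [h1] at h2
  have h4 : ((648 : ℚ) : ℂ) = (((Nat.card G : ℚ) * ∑ t, R.SI t * (TT t 0 * TT t 2 * TT t 2) : ℚ) : ℂ) := by
    rw [← h2]; push_cast; norm_num
  exact_mod_cast h4.symm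

omit [Fintype (IrrCharacter G)] in
/-- congruence for the signed degree -/
theorem Typed.sd_mod (χ : IrrCharacter G) : (R.sd χ + 4 * (TT (R.ty χ) 0 + TT (R.ty χ) 2)) % 9 = 0 := by
  have h1 := R.d_eq χ
  have h2 := R.r0_eq χ
  have h3 := R.r2_eq χ
  rw [R.hty] at h2 h3
  unfold Typed.sd
  rcases R.hε χ with h | h <;> rw [h] at h2 h3 ⊢ <;> omega

omit [Fintype (IrrCharacter G)] in
/-- `m₀` -/
theorem Typed.m0_eq (χ : IrrCharacter G) : 9 * R.m0 χ = R.ε χ * (R.sd χ + 4 * (TT (R.ty χ) 0 + TT (R.ty χ) 2)) := by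
  have h1 := R.d_eq χ
  have h2 := R.r0_eq χ
  have h3 := R.r2_eq χ
  rw [R.hty] at h2 h3
  unfold Typed.sd
  rcases R.hε χ with h | h <;> rw [h] at h2 h3 ⊢ <;> omega

omit [Fintype (IrrCharacter G)] in
theorem Typed.mA_eq (χ : IrrCharacter G) : 9 * R.mA χ = R.ε χ * (R.sd χ + TT (R.ty χ) 0 - 2 * TT (R.ty χ) 2) := by
  have h1 := R.d_eq χ
  have h2 := R.r0_eq χ
  have h3 := R.r2_eq χ
  rw [R.hty] at h2 h3
  unfold Typed.sd
  rcases R.hε χ with h | h <;> rw [h] at h2 h3 ⊢ <;> omega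

omit [Fintype (IrrCharacter G)] in
theorem Typed.mB_eq (χ : IrrCharacter G) : 9 * R.mB χ = R.ε χ * (R.sd χ - 2 * TT (R.ty χ) 0 + TT (R.ty χ) 2) := by
  have h1 := R.d_eq χ
  have h2 := R.r0_eq χ
  have h3 := R.r2_eq χ
  rw [R.hty] at h2 h3
  unfold Typed.sd
  rcases R.hε χ with h | h <;> rw [h] at h2 h3 ⊢ <;> omega

omit [Fintype (IrrCharacter G)] in
theorem Typed.ε_pos {χ : IrrCharacter G} (h : 0 < R.sd χ) : R.ε χ = 1 := by
  have := R.dpos χ
  unfold Typed.sd at h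
  rcases R.hε χ with h' | h'
  · exact h'
  · rw [h'] at h; omega

omit [Fintype (IrrCharacter G)] in
theorem Typed.ε_neg {χ : IrrCharacter G} (h : R.sd χ < 0) : R.ε χ = -1 := by
  have := R.dpos χ
  unfold Typed.sd at h
  rcases R.hε χ with h' | h'
  · rw [h'] at h; omega
  · exact h'

end

end Cfsg.Agent.Tri3
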