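import Cfsg.Agent.Tri3.Nine.Eqs
import Cfsg.Agent.Tri3.DetInv
import Cfsg.Agent.Char.GoingDown

/-!
# Linear characters of groups with `3² : D₈`
-/

set_option autoImplicit false
set_option linter.unusedSectionVars false
set_option maxHeartbeats 1000000

open scoped ComplexConjugate
open Cfsg Cfsg.Agent.CharBase Cfsg.Agent.Char Cfsg.Agent.Char.GD

namespace Cfsg.Agent.Tri3

section

variable {G : Type*} [Group G] [Finite G] {H : Subgroup G} {D : D9 H} (R : Typed D)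

theorem int_cube_eq_one {x : ℤ} (h : x ^ 3 = 1) : x = 1 := by
  have h1 : (x - 1) * (x ^ 2 + x + 1) = 0 := by linear_combination h
  rcases mul_eq_zero.1 h1 with h2 | h2
  · linarith
  · nlinarith [sq_nonneg (2 * x + 1)]

theorem int_sq_eq_one {x : ℤ} (h : x ^ 2 = 1) : x = 1 ∨ x = -1 := by
  have h1 : (x - 1) * (x + 1) = 0 := by linear_combination h
  rcases mul_eq_zero.1 h1 with h2 | h2
  · left; linarith
  · right; linarith

theorem Typed.lin_one {χ : IrrCharacter G} (hd : R.d χ = 1) : (χ : G → ℂ) 1 = 1 := by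
  rw [R.hd, hd]; simp

theorem Typed.lin_r0 {χ : IrrCharacter G} (hd : R.d χ = 1) : R.r χ 0 = 1 := by
  apply int_cube_eq_one
  have h1 := R.lin_one hd
  have h2 := linChar_pow (irr_isCharacter χ) h1 (D.f (1, 0)) 3
  rw [D.f_cube, h1] at h2
  have h3 : (χ : G → ℂ) (D.f (1, 0)) = R.r χ 0 := R.hr χ 0
  rw [h3] at h2
  exact_mod_cast h2.symm

theorem Typed.lin_r2 {χ : IrrCharacter G} (hd : R.d χ = 1) : R.r χ 2 = 1 := by
  apply int_cube_eq_one
  have h1 := R.lin_one hd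
  have h2 := linChar_pow (irr_isCharacter χ) h1 (D.f (1, 1)) 3
  rw [D.f_cube, h1] at h2
  have h3 : (χ : G → ℂ) (D.f (1, 1)) = R.r χ 2 := R.hr χ 2
  rw [h3] at h2
  exact_mod_cast h2.symm

theorem Typed.lin_t {χ : IrrCharacter G} (hd : R.d χ = 1) : (χ : G → ℂ) D.t = R.r χ 1 := by
  have h1 := R.lin_one hd
  have h2 := linChar_mul (irr_isCharacter χ) h1 (D.f (1, 0)) D.t
  have h3 : (χ : G → ℂ) (D.f (1, 0)) = R.r χ 0 := R.hr χ 0
  have h4 : (χ : G → ℂ) (D.f (1, 0) * D.t) = R.r χ 1 := R.hr χ 1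
  rw [h3, h4, R.lin_r0 hd] at h2
  push_cast at h2
  rw [one_mul] at h2
  exact h2.symm

theorem Typed.lin_s {χ : IrrCharacter G} (hd : R.d χ = 1) : (χ : G → ℂ) D.s = R.r χ 3 := by
  have h1 := R.lin_one hd
  have h2 := linChar_mul (irr_isCharacter χ) h1 (D.f (1, 1)) D.s
  have h3 : (χ : G → ℂ) (D.f (1, 1)) = R.r χ 2 := R.hr χ 2
  have h4 : (χ : G → ℂ) (D.f (1, 1) * D.s) = R.r χ 3 := R.hr χ 3
  rw [h3, h4, R.lin_r2 hd] at h2
  push_cast at h2
  rw [one_mul] at h2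
  exact h2.symm

theorem Typed.lin_r1 {χ : IrrCharacter G} (hd : R.d χ = 1) : R.r χ 1 = 1 ∨ R.r χ 1 = -1 := by
  apply int_sq_eq_one
  have h1 := R.lin_one hd
  have h2 := linChar_mul (irr_isCharacter χ) h1 D.t D.t
  rw [D.tt, h1, R.lin_t hd] at h2
  have h3 : (1 : ℤ) = R.r χ 1 * R.r χ 1 := by exact_mod_cast h2
  rw [pow_two]; exact h3.symm

theorem Typed.lin_r3 {χ : IrrCharacter G} (hd : R.d χ = 1) : R.r χ 3 = 1 ∨ R.r χ 3 = -1 := by
  apply int_sq_eq_one
  have h1 := R.lin_one hd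
  have h2 := linChar_mul (irr_isCharacter χ) h1 D.s D.s
  rw [D.ss, h1, R.lin_s hd] at h2
  have h3 : (1 : ℤ) = R.r χ 3 * R.r χ 3 := by exact_mod_cast h2
  rw [pow_two]; exact h3.symm

/-- the type of a linear character -/
theorem Typed.lin_type {χ : IrrCharacter G} (hd : R.d χ = 1) :
    (R.ty χ = 1 ∨ R.ty χ = 2 ∨ R.ty χ = 3 ∨ R.ty χ = 4) ∧ R.ε χ = 1 ∧ R.sd χ = 1 := by
  have h0 := R.lin_r0 hd
  have h2 := R.lin_r2 hd
  have key : ∃ t : Fin 16, (t = 1 ∨ t = 2 ∨ t = 3 ∨ t = 4) ∧ ∀ i, R.r χ i = 1 * TT t i := by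
    rcases R.lin_r1 hd with h1 | h1 <;> rcases R.lin_r3 hd with h3 | h3
    · refine ⟨1, Or.inl rfl, fun i => ?_⟩
      fin_cases i
      · change R.r χ 0 = _; rw [h0]; decide
      · change R.r χ 1 = _; rw [h1]; decide
      · change R.r χ 2 = _; rw [h2]; decide
      · change R.r χ 3 = _; rw [h3]; decide
    · refine ⟨2, Or.inr (Or.inl rfl), fun i => ?_⟩
      fin_cases i
      · change R.r χ 0 = _; rw [h0]; decide
      · change R.r χ 1 = _; rw [h1]; decide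
      · change R.r χ 2 = _; rw [h2]; decide
      · change R.r χ 3 = _; rw [h3]; decide
    · refine ⟨3, Or.inr (Or.inr (Or.inl rfl)), fun i => ?_⟩
      fin_cases i
      · change R.r χ 0 = _; rw [h0]; decide
      · change R.r χ 1 = _; rw [h1]; decide
      · change R.r χ 2 = _; rw [h2]; decide
      · change R.r χ 3 = _; rw [h3]; decide
    · refine ⟨4, Or.inr (Or.inr (Or.inr rfl)), fun i => ?_⟩
      fin_cases i
      · change R.r χ 0 = _; rw [h0]; decide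
      · change R.r χ 1 = _; rw [h1]; decide
      · change R.r χ 2 = _; rw [h2]; decide
      · change R.r χ 3 = _; rw [h3]; decide
  obtain ⟨t, ht, hrow⟩ := key
  obtain ⟨k1, k2⟩ := R.type_of_row (Or.inl rfl) (by rcases ht with rfl | rfl | rfl | rfl <;> decide) hrow
  refine ⟨by rw [k1]; exact ht, k2, ?_⟩
  unfold Typed.sd
  rw [k2, hd]; norm_num

theorem Typed.lin_f {χ : IrrCharacter G} (hd : R.d χ = 1) (v : A2) : (χ : G → ℂ) (D.f v) = 1 := by
  have h0 : (χ : G → ℂ) (D.f (1, 0)) = 1 := by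
    have : (χ : G → ℂ) (D.f (1, 0)) = R.r χ 0 := R.hr χ 0
    rw [this, R.lin_r0 hd]; simp
  have h2 : (χ : G → ℂ) (D.f (1, 1)) = 1 := by
    have : (χ : G → ℂ) (D.f (1, 1)) = R.r χ 2 := R.hr χ 2
    rw [this, R.lin_r2 hd]; simp
  have key : ∀ v : A2, v = 0 ∨ (∃ g, sgD g (1, 0) = v) ∨ (∃ g, sgD g (1, 1) = v) := by decide
  rcases key v with rfl | ⟨g, rfl⟩ | ⟨g, rfl⟩
  · rw [D.f_zero]; exact R.lin_one hd
  · rw [D.char_f, h0]
  · rw [D.char_f, h2]

/-- a linear character of type 1 is trivial -/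
theorem Typed.triv_of_type1 (hFr : ∀ N : Subgroup G, N.Normal → H ≤ N → N = ⊤) {χ : IrrCharacter G} (hd : R.d χ = 1)
    (ht : R.ty χ = 1) : χ = oneIrr G := by
  have h1 := R.lin_one hd
  have hε := (R.lin_type hd).2.1
  have ht1 : (χ : G → ℂ) D.t = 1 := by
    rw [R.lin_t hd, R.hty, hε, ht]
    have : TT 1 1 = 1 := by decide
    rw [this]; simp
  have hs1 : (χ : G → ℂ) D.s = 1 := by
    rw [R.lin_s hd, R.hty, hε, ht]
    have : TT 1 3 = 1 := by decide
    rw [this]; simp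
  let F : G →* ℂ := linHom (irr_isCharacter χ) h1
  have hr1 : F (D.E (.r 1)) = 1 := by
    have : D.E (.r 1) = D.t * D.s := by
      unfold D9.t D9.s; rw [← map_mul]; congr 1
    rw [this, map_mul]
    change (χ : G → ℂ) D.t * (χ : G → ℂ) D.s = 1
    rw [ht1, hs1, one_mul]
  have hr : ∀ i : ZMod 4, F (D.E (.r i)) = 1 := by
    intro i
    have : D.E (.r i) = D.E (.r 1) ^ i.val := by
      rw [← map_pow, DihedralGroup.r_one_pow, ZMod.natCast_zmod_val]
    rw [this, map_pow, hr1, one_pow]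
  have hE : ∀ g, F (D.E g) = 1 := by
    intro g
    rcases g with i | i
    · exact hr i
    · have : D.E (.sr i) = D.t * D.E (.r (i - 2)) := by
        unfold D9.t
        rw [← map_mul, DihedralGroup.sr_mul_r, add_sub_cancel]
      rw [this, map_mul, hr]
      change (χ : G → ℂ) D.t * 1 = 1
      rw [ht1, one_mul]
  have hK : F.ker = ⊤ := by
    apply hFr _ inferInstance
    intro h hh
    obtain ⟨v, g, rfl⟩ := D.ex h hh
    rw [MonoidHom.mem_ker, map_mul, D.e_eq, hE, mul_one]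
    exact R.lin_f hd v
  apply Subtype.ext
  funext g
  have : g ∈ F.ker := by rw [hK]; trivial
  exact MonoidHom.mem_ker.1 this

/-- tensoring with a linear character -/
theorem Typed.tensor {χ : IrrCharacter G} (hd : R.d χ = 1) (ψ : IrrCharacter G) :
    ∃ φ : IrrCharacter G, R.d φ = R.d ψ ∧ ∀ i, R.r φ i = R.r χ i * R.r ψ i := by
  have := Fintype.ofFinite G
  have h1 := R.lin_one hd
  refine ⟨⟨fun x => (χ : G → ℂ) x * (ψ : G → ℂ) x, isIrr_linear_mul (irr_isCharacter χ) h1 ψ.2⟩, ?_, ?_⟩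
  · set φ : IrrCharacter G := ⟨fun x => (χ : G → ℂ) x * (ψ : G → ℂ) x, isIrr_linear_mul (irr_isCharacter χ) h1 ψ.2⟩ with hφ
    have e : (φ : G → ℂ) 1 = (χ : G → ℂ) 1 * (ψ : G → ℂ) 1 := rfl
    rw [R.hd, R.hd, R.hd, hd] at e
    have : R.d φ = 1 * R.d ψ := by exact_mod_cast e
    rw [this, one_mul]
  · intro i
    set φ : IrrCharacter G := ⟨fun x => (χ : G → ℂ) x * (ψ : G → ℂ) x, isIrr_linear_mul (irr_isCharacter χ) h1 ψ.2⟩ with hφ
    have e : (φ : G → ℂ) (D.sp i) = (χ : G → ℂ) (D.sp i) * (ψ : G → ℂ) (D.sp i) := rfl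
    rw [R.hr, R.hr, R.hr] at e
    exact_mod_cast e

theorem Typed.tensor_type {χ ψ : IrrCharacter G} (hd : R.d χ = 1) (t : Fin 16) (ht0 : t ≠ 0)
    (ht : ∀ i, TT (R.ty χ) i * TT (R.ty ψ) i = TT t i) :
    ∃ φ : IrrCharacter G, R.ty φ = t ∧ R.sd φ = R.sd ψ := by
  obtain ⟨φ, h1, h2⟩ := R.tensor hd ψ
  have hε := (R.lin_type hd).2.1
  have h3 : ∀ i, R.r φ i = R.ε ψ * TT t i := by
    intro i
    rw [h2, R.hty, R.hty, hε, ← ht]; ring
  obtain ⟨k1, k2⟩ := R.type_of_row (R.hε ψ) ht0 h3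
  refine ⟨φ, k1, ?_⟩
  unfold Typed.sd
  rw [k2, h1]

theorem Typed.d_of_sd_one {χ : IrrCharacter G} (h : R.sd χ = 1) : R.d χ = 1 := by
  have h1 := R.ε_pos (χ := χ) (by rw [h]; norm_num)
  unfold Typed.sd at h
  rw [h1, one_mul] at h
  exact h

/-- if all linear characters are trivial, `d ≡ τ` mod 4 -/
theorem Typed.four_dvd (hlin : ∀ χ : IrrCharacter G, R.d χ = 1 → χ = oneIrr G) (χ : IrrCharacter G) :
    (R.d χ - R.τ χ) % 4 = 0 := by
  have hl : ∀ f : G →* ℂ, ∀ g, f g = 1 := by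
    intro f g
    let χ : IrrCharacter G := ⟨f, isIrrCharacter_of_hom f⟩
    have h1 : R.d χ = 1 := by
      have : (χ : G → ℂ) 1 = 1 := map_one f
      rw [R.hd] at this
      exact_mod_cast this
    have h2 := hlin χ h1
    have : (χ : G → ℂ) g = 1 := by rw [h2]; rfl
    exact this
  obtain ⟨k, hk⟩ := exists_four_char hl (irr_isCharacter χ) D.tt
  rw [R.hτ, R.hd] at hk
  have : R.τ χ = R.d χ - 4 * (k : ℤ) := by exact_mod_cast hk
  omega

end

end Cfsg.Agent.Tri3
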