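import Mathlib

/-!
# Rows of the special classes of `3² : D₈`: combinatorics
-/

set_option autoImplicit false
set_option linter.unusedSectionVars false

namespace Cfsg.Agent.Tri3

/-- the types of the rows -/
def TT : Fin 16 → Fin 4 → ℤ :=
  ![![0, 0, 0, 0], ![1, 1, 1, 1], ![1, 1, 1, -1], ![1, -1, 1, 1], ![1, -1, 1, -1], ![2, 0, 2, 0],
    ![1, 1, -2, 0], ![1, -1, -2, 0], ![-2, 0, 1, 1], ![-2, 0, 1, -1], ![0, 0, 3, 1], ![0, 0, 3, -1],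
    ![3, 1, 0, 0], ![3, -1, 0, 0], ![0, 2, 0, 0], ![0, 0, 0, 2]]

theorem row_key : ∀ a ∈ Finset.Icc (-4 : ℤ) 4, ∀ b ∈ Finset.Icc (-2 : ℤ) 2, ∀ c ∈ Finset.Icc (-4 : ℤ) 4,
    ∀ d ∈ Finset.Icc (-2 : ℤ) 2,
      (a - b) % 2 = 0 → (c - d) % 2 = 0 → (a - c) % 3 = 0 → a ^ 2 + 3 * b ^ 2 + c ^ 2 + 3 * d ^ 2 < 18 →
      ∃ t : Fin 16, (∀ i, ![a, b, c, d] i = TT t i) ∨ (∀ i, ![a, b, c, d] i = -(TT t i)) := by decide +kernel

/-- classification of the rows -/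
theorem row_type (r : Fin 4 → ℤ) (h01 : (r 0 - r 1) % 2 = 0) (h23 : (r 2 - r 3) % 2 = 0) (h02 : (r 0 - r 2) % 3 = 0)
    (hq : r 0 ^ 2 + 3 * r 1 ^ 2 + r 2 ^ 2 + 3 * r 3 ^ 2 < 18) :
    ∃ (t : Fin 16) (e : ℤ), (e = 1 ∨ e = -1) ∧ ∀ i, r i = e * TT t i := by
  have s0 := sq_nonneg (r 0)
  have s1 := sq_nonneg (r 1)
  have s2 := sq_nonneg (r 2)
  have s3 := sq_nonneg (r 3)
  have b0 : -4 ≤ r 0 ∧ r 0 ≤ 4 := by
    have : r 0 ^ 2 < 18 := by linarith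
    constructor <;> nlinarith
  have b2 : -4 ≤ r 2 ∧ r 2 ≤ 4 := by
    have : r 2 ^ 2 < 18 := by linarith
    constructor <;> nlinarith
  have b1 : -2 ≤ r 1 ∧ r 1 ≤ 2 := by
    have : r 1 ^ 2 < 6 := by linarith
    constructor <;> nlinarith
  have b3 : -2 ≤ r 3 ∧ r 3 ≤ 2 := by
    have : r 3 ^ 2 < 6 := by linarith
    constructor <;> nlinarith
  obtain ⟨t, ht⟩ := row_key (r 0) (Finset.mem_Icc.2 b0) (r 1) (Finset.mem_Icc.2 b1) (r 2) (Finset.mem_Icc.2 b2)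
    (r 3) (Finset.mem_Icc.2 b3) h01 h23 h02 hq
  have hr : ![r 0, r 1, r 2, r 3] = r := by
    funext i; fin_cases i <;> rfl
  rw [hr] at ht
  rcases ht with ht | ht
  · exact ⟨t, 1, Or.inl rfl, fun i => by rw [ht i, one_mul]⟩
  · exact ⟨t, -1, Or.inr rfl, fun i => by rw [ht i]; ring⟩

theorem mult_key (P q R U V W y z : ℤ) (h1 : 1 ≤ P) (h2 : 0 ≤ q) (h3 : 0 ≤ R) (h4 : 0 ≤ U) (h5 : 0 ≤ V) (h6 : 0 ≤ W)
    (h7 : 0 ≤ y) (h8 : 0 ≤ z)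
    (h9 : P + 4 * q + R + 4 * U + 9 * W = 18) (h10 : P + 4 * q + 4 * R + U + 9 * V = 18) (h11 : P + R + W + 4 * y = 6)
    (h12 : P + U + V + 4 * z = 6) (h13 : P + 4 * q - 2 * R - 2 * U = 0) :
    (P = 4 ∧ q = 1 ∧ R = 2 ∧ U = 2 ∧ V = 0 ∧ W = 0 ∧ y = 0 ∧ z = 0) ∨
    (P = 2 ∧ q = 1 ∧ R = 3 ∧ U = 0 ∧ V = 0 ∧ W = 1 ∧ y = 0 ∧ z = 1) ∨
    (P = 2 ∧ q = 1 ∧ R = 0 ∧ U = 3 ∧ V = 1 ∧ W = 0 ∧ y = 1 ∧ z = 0) ∨
    (P = 4 ∧ q = 0 ∧ R = 1 ∧ U = 1 ∧ V = 1 ∧ W = 1 ∧ y = 0 ∧ z = 0) := by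
  have hU : U = 2 - 2 * W + V := by omega
  have hR : R = 2 + W - 2 * V := by omega
  subst hU hR
  have hW : W ≤ 1 := by omega
  have hV : V ≤ 1 := by omega
  clear h9 h10
  interval_cases W <;> interval_cases V
  · left
    have a1 : y = 0 := by omega
    have a2 : z = 0 := by omega
    have a3 : P = 4 := by omega
    have a4 : q = 1 := by omega
    exact ⟨a3, a4, by norm_num, by norm_num, rfl, rfl, a1, a2⟩
  · right; right; left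
    have a1 : y = 1 := by omega
    have a2 : z = 0 := by omega
    have a3 : P = 2 := by omega
    have a4 : q = 1 := by omega
    exact ⟨a3, a4, by norm_num, by norm_num, rfl, rfl, a1, a2⟩
  · right; left
    have a1 : y = 0 := by omega
    have a2 : z = 1 := by omega
    have a3 : P = 2 := by omega
    have a4 : q = 1 := by omega
    exact ⟨a3, a4, by norm_num, by norm_num, rfl, rfl, a1, a2⟩
  · right; right; right
    have a1 : y = 0 := by omega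
    have a2 : z = 0 := by omega
    have a3 : P = 4 := by omega
    have a4 : q = 0 := by omega
    exact ⟨a3, a4, by norm_num, by norm_num, rfl, rfl, a1, a2⟩

set_option maxHeartbeats 2000000 in
/-- the multiplicities of the types -/
theorem mult_cases (p1 p2 p3 p4 q r6 r7 u8 u9 v10 v11 w12 w13 y z : ℤ)
    (g1 : 1 ≤ p1) (g2 : 0 ≤ p2) (g3 : 0 ≤ p3) (g4 : 0 ≤ p4) (g5 : 0 ≤ q) (g6 : 0 ≤ r6) (g7 : 0 ≤ r7) (g8 : 0 ≤ u8)
    (g9 : 0 ≤ u9) (g10 : 0 ≤ v10) (g11 : 0 ≤ v11) (g12 : 0 ≤ w12) (g13 : 0 ≤ w13) (g14 : 0 ≤ y) (g15 : 0 ≤ z)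
    (e00 : p1 + p2 + p3 + p4 + 4 * q + r6 + r7 + 4 * u8 + 4 * u9 + 9 * w12 + 9 * w13 = 18)
    (e22 : p1 + p2 + p3 + p4 + 4 * q + 4 * r6 + 4 * r7 + u8 + u9 + 9 * v10 + 9 * v11 = 18)
    (e11 : p1 + p2 + p3 + p4 + r6 + r7 + w12 + w13 + 4 * y = 6)
    (e33 : p1 + p2 + p3 + p4 + u8 + u9 + v10 + v11 + 4 * z = 6)
    (e02 : p1 + p2 + p3 + p4 + 4 * q - 2 * r6 - 2 * r7 - 2 * u8 - 2 * u9 = 0)
    (e01 : p1 + p2 - p3 - p4 + r6 - r7 + 3 * w12 - 3 * w13 = 0)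
    (e03 : p1 - p2 + p3 - p4 - 2 * u8 + 2 * u9 = 0)
    (e12 : p1 + p2 - p3 - p4 - 2 * r6 + 2 * r7 = 0)
    (e23 : p1 - p2 + p3 - p4 + u8 - u9 + 3 * v10 - 3 * v11 = 0)
    (e13 : p1 - p2 - p3 + p4 = 0) :
    (p1 = 1 ∧ p2 = 1 ∧ p3 = 1 ∧ p4 = 1 ∧ q = 1 ∧ r6 = 1 ∧ r7 = 1 ∧ u8 = 1 ∧ u9 = 1 ∧ v10 = 0 ∧ v11 = 0 ∧ w12 = 0 ∧
      w13 = 0 ∧ y = 0 ∧ z = 0) ∨
    (p1 = 1 ∧ p2 = 1 ∧ p3 = 0 ∧ p4 = 0 ∧ q = 1 ∧ r6 = 2 ∧ r7 = 1 ∧ u8 = 0 ∧ u9 = 0 ∧ v10 = 0 ∧ v11 = 0 ∧ w12 = 0 ∧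
      w13 = 1 ∧ y = 0 ∧ z = 1) ∨
    (p1 = 1 ∧ p2 = 0 ∧ p3 = 1 ∧ p4 = 0 ∧ q = 1 ∧ r6 = 0 ∧ r7 = 0 ∧ u8 = 2 ∧ u9 = 1 ∧ v10 = 0 ∧ v11 = 1 ∧ w12 = 0 ∧
      w13 = 0 ∧ y = 1 ∧ z = 0) ∨
    (p1 = 2 ∧ p2 = 1 ∧ p3 = 1 ∧ p4 = 0 ∧ q = 0 ∧ r6 = 1 ∧ r7 = 0 ∧ u8 = 1 ∧ u9 = 0 ∧ v10 = 0 ∧ v11 = 1 ∧ w12 = 0 ∧
      w13 = 1 ∧ y = 0 ∧ z = 0) ∨
    (p1 = 1 ∧ p2 = 2 ∧ p3 = 0 ∧ p4 = 1 ∧ q = 0 ∧ r6 = 1 ∧ r7 = 0 ∧ u8 = 0 ∧ u9 = 1 ∧ v10 = 1 ∧ v11 = 0 ∧ w12 = 0 ∧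
      w13 = 1 ∧ y = 0 ∧ z = 0) ∨
    (p1 = 1 ∧ p2 = 0 ∧ p3 = 2 ∧ p4 = 1 ∧ q = 0 ∧ r6 = 0 ∧ r7 = 1 ∧ u8 = 1 ∧ u9 = 0 ∧ v10 = 0 ∧ v11 = 1 ∧ w12 = 1 ∧
      w13 = 0 ∧ y = 0 ∧ z = 0) := by
  rcases mult_key (p1 + p2 + p3 + p4) q (r6 + r7) (u8 + u9) (v10 + v11) (w12 + w13) y z (by linarith) g5 (by linarith) (by linarith)
    (by linarith) (by linarith) g14 g15 (by linarith) (by linarith) (by linarith) (by linarith) (by linarith) with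
    ⟨hP, hq, hR, hU, hV, hW, hy, hz⟩ | ⟨hP, hq, hR, hU, hV, hW, hy, hz⟩ | ⟨hP, hq, hR, hU, hV, hW, hy, hz⟩ |
    ⟨hP, hq, hR, hU, hV, hW, hy, hz⟩
  · left
    clear e00 e22 e11 e33 e02
    have a1 : w12 = 0 := by omega
    have a2 : w13 = 0 := by omega
    have a3 : v10 = 0 := by omega
    have a4 : v11 = 0 := by omega
    subst a1 a2 a3 a4
    have a5 : r6 = 1 := by omega
    have a6 : r7 = 1 := by omega
    subst a5 a6
    have a7 : u8 = 1 := by omega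
    have a8 : u9 = 1 := by omega
    subst a7 a8
    have b1 : p1 = 1 := by omega
    have b2 : p2 = 1 := by omega
    have b3 : p3 = 1 := by omega
    have b4 : p4 = 1 := by omega
    exact ⟨b1, b2, b3, b4, hq, rfl, rfl, rfl, rfl, rfl, rfl, rfl, rfl, hy, hz⟩
  · right; left
    clear e00 e22 e11 e33 e02
    have a7 : u8 = 0 := by omega
    have a8 : u9 = 0 := by omega
    have a3 : v10 = 0 := by omega
    have a4 : v11 = 0 := by omega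
    subst a3 a4 a7 a8
    have b1 : p1 = 1 := by omega
    have b2 : p2 = 1 := by omega
    have b3 : p3 = 0 := by omega
    have b4 : p4 = 0 := by omega
    subst b1 b2 b3 b4
    have a5 : r6 = 2 := by omega
    have a6 : r7 = 1 := by omega
    subst a5 a6
    have a1 : w12 = 0 := by omega
    have a2 : w13 = 1 := by omega
    exact ⟨rfl, rfl, rfl, rfl, hq, rfl, rfl, rfl, rfl, rfl, rfl, a1, a2, hy, hz⟩
  · right; right; left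
    clear e00 e22 e11 e33 e02
    have a7 : r6 = 0 := by omega
    have a8 : r7 = 0 := by omega
    have a3 : w12 = 0 := by omega
    have a4 : w13 = 0 := by omega
    subst a3 a4 a7 a8
    have b1 : p1 = 1 := by omega
    have b2 : p2 = 0 := by omega
    have b3 : p3 = 1 := by omega
    have b4 : p4 = 0 := by omega
    subst b1 b2 b3 b4
    have a5 : u8 = 2 := by omega
    have a6 : u9 = 1 := by omega
    subst a5 a6
    have a1 : v10 = 0 := by omega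
    have a2 : v11 = 1 := by omega
    exact ⟨rfl, rfl, rfl, rfl, hq, rfl, rfl, rfl, rfl, a1, a2, rfl, rfl, hy, hz⟩
  · right; right; right
    clear e00 e22 e11 e33 e02
    have h14 : p1 + p4 = 2 := by omega
    have h15 : p2 + p3 = 2 := by omega
    have h16 : r6 = 1 ∧ r7 = 0 ∨ r6 = 0 ∧ r7 = 1 := by
      have : r6 = 1 ∨ r6 = 0 := by omega
      rcases this with h | h
      · left; constructor <;> omega
      · right; constructor <;> omega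
    have h17 : u8 = 1 ∧ u9 = 0 ∨ u8 = 0 ∧ u9 = 1 := by
      have : u8 = 1 ∨ u8 = 0 := by omega
      rcases this with h | h
      · left; constructor <;> omega
      · right; constructor <;> omega
    rcases h16 with ⟨h1, h2⟩ | ⟨h1, h2⟩ <;> rcases h17 with ⟨h3, h4⟩ | ⟨h3, h4⟩ <;> subst h1 h2 h3 h4
    · left
      have b1 : p1 = 2 := by omega
      have b2 : p2 = 1 := by omega
      have b3 : p3 = 1 := by omega
      have b4 : p4 = 0 := by omega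
      subst b1 b2 b3 b4
      have c1 : v10 = 0 := by omega
      have c2 : v11 = 1 := by omega
      have c3 : w12 = 0 := by omega
      have c4 : w13 = 1 := by omega
      exact ⟨rfl, rfl, rfl, rfl, hq, rfl, rfl, rfl, rfl, c1, c2, c3, c4, hy, hz⟩
    · right; left
      have b1 : p1 = 1 := by omega
      have b2 : p2 = 2 := by omega
      have b3 : p3 = 0 := by omega
      have b4 : p4 = 1 := by omega
      subst b1 b2 b3 b4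
      have c1 : v10 = 1 := by omega
      have c2 : v11 = 0 := by omega
      have c3 : w12 = 0 := by omega
      have c4 : w13 = 1 := by omega
      exact ⟨rfl, rfl, rfl, rfl, hq, rfl, rfl, rfl, rfl, c1, c2, c3, c4, hy, hz⟩
    · right; right
      have b1 : p1 = 1 := by omega
      have b2 : p2 = 0 := by omega
      have b3 : p3 = 2 := by omega
      have b4 : p4 = 1 := by omega
      subst b1 b2 b3 b4
      have c1 : v10 = 0 := by omega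
      have c2 : v11 = 1 := by omega
      have c3 : w12 = 1 := by omega
      have c4 : w13 = 0 := by omega
      exact ⟨rfl, rfl, rfl, rfl, hq, rfl, rfl, rfl, rfl, c1, c2, c3, c4, hy, hz⟩
    · exfalso; omega

end Cfsg.Agent.Tri3
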