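import Cfsg.Agent.Tri3.Nine.Cols
import Cfsg.Agent.Tri3.Nine.Rows

/-!
# The types of the irreducible characters
-/

set_option autoImplicit false
set_option linter.unusedSectionVars false
set_option maxHeartbeats 1000000

open scoped ComplexConjugate
open Cfsg Cfsg.Agent.CharBase

namespace Cfsg.Agent.Tri3

theorem sum16 {M : Type*} [AddCommMonoid M] (f : Fin 16 → M) : ∑ t, f t = f 0 + f 1 + f 2 + f 3 + f 4 + f 5 + f 6 +
    f 7 + f 8 + f 9 + f 10 + f 11 + f 12 + f 13 + f 14 + f 15 := by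
  simp only [Fin.sum_univ_castSucc, Fin.sum_univ_zero, zero_add]
  rfl

theorem sum_by_type {ι : Type*} [Fintype ι] (ty : ι → Fin 16) (F : Fin 16 → ℤ) :
    ∑ χ, F (ty χ) = ∑ t, ((Finset.univ.filter (fun χ => ty χ = t)).card : ℤ) * F t := by
  rw [← Finset.sum_fiberwise Finset.univ ty]
  refine Finset.sum_congr rfl fun t _ => ?_
  rw [Finset.sum_congr rfl (fun χ hχ => by rw [(Finset.mem_filter.1 hχ).2] :
    ∀ χ ∈ Finset.univ.filter (fun χ => ty χ = t), F (ty χ) = F t)]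
  rw [Finset.sum_const, nsmul_eq_mul]

/-- the data attached to the irreducible characters -/
structure Rows {G : Type*} [Group G] [Finite G] {H : Subgroup G} (D : D9 H) where
  r : IrrCharacter G → Fin 4 → ℤ
  d : IrrCharacter G → ℤ
  τ : IrrCharacter G → ℤ
  m0 : IrrCharacter G → ℤ
  mA : IrrCharacter G → ℤ
  mB : IrrCharacter G → ℤ
  hr : ∀ (χ : IrrCharacter G) (i : Fin 4), (χ : G → ℂ) (D.sp i) = r χ i
  hd : ∀ χ : IrrCharacter G, (χ : G → ℂ) 1 = d χ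
  hτ : ∀ χ : IrrCharacter G, (χ : G → ℂ) D.t = τ χ
  dpos : ∀ χ : IrrCharacter G, 0 < d χ
  m0nn : ∀ χ : IrrCharacter G, 0 ≤ m0 χ
  mAnn : ∀ χ : IrrCharacter G, 0 ≤ mA χ
  mBnn : ∀ χ : IrrCharacter G, 0 ≤ mB χ
  d_eq : ∀ χ : IrrCharacter G, d χ = m0 χ + 4 * mA χ + 4 * mB χ
  r0_eq : ∀ χ : IrrCharacter G, r χ 0 = m0 χ + mA χ - 2 * mB χ
  r2_eq : ∀ χ : IrrCharacter G, r χ 2 = m0 χ - 2 * mA χ + mB χ
  c01 : ∀ χ : IrrCharacter G, (r χ 0 - r χ 1) % 2 = 0
  c23 : ∀ χ : IrrCharacter G, (r χ 2 - r χ 3) % 2 = 0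
  hm0 : ∀ χ : IrrCharacter G, m0 χ = 0 → τ χ = -2 * r χ 1

section

variable {G : Type*} [Group G] [Finite G] {H : Subgroup G} (D : D9 H)

theorem exists_rows : Nonempty (Rows D) := by
  choose m0 mA mB n0p n0m n1p n1m k0p k0m k1p k1m h1 h2 h3 h4 h5 h6 h7 h8 h9 h10 using exists_mults D
  refine ⟨{ r := fun χ => ![m0 χ + mA χ - 2 * mB χ, n0p χ - n0m χ - (n1p χ - n1m χ), m0 χ - 2 * mA χ + mB χ,
              k0p χ - k0m χ - (k1p χ - k1m χ)]
            d := fun χ => m0 χ + 4 * mA χ + 4 * mB χ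
            τ := fun χ => n0p χ - n0m χ + 2 * (n1p χ - n1m χ)
            m0 := fun χ => m0 χ
            mA := fun χ => mA χ
            mB := fun χ => mB χ
            hr := ?_, hd := ?_, hτ := ?_, dpos := ?_, m0nn := ?_, mAnn := ?_, mBnn := ?_, d_eq := fun _ => rfl,
            r0_eq := fun _ => rfl, r2_eq := fun _ => rfl, c01 := ?_, c23 := ?_, hm0 := ?_ }⟩
  · intro χ i
    fin_cases i
    · change (χ : G → ℂ) (D.f (1, 0)) = ((m0 χ + mA χ - 2 * mB χ : ℤ) : ℂ)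
      rw [h6]; push_cast; ring
    · change (χ : G → ℂ) (D.f (1, 0) * D.t) = ((n0p χ - n0m χ - (n1p χ - n1m χ) : ℤ) : ℂ)
      rw [h8]; push_cast; ring
    · change (χ : G → ℂ) (D.f (1, 1)) = ((m0 χ - 2 * mA χ + mB χ : ℤ) : ℂ)
      rw [h7]; push_cast; ring
    · change (χ : G → ℂ) (D.f (1, 1) * D.s) = ((k0p χ - k0m χ - (k1p χ - k1m χ) : ℤ) : ℂ)
      rw [h10]; push_cast; ring
  · intro χ; rw [h5]; push_cast; ring
  · intro χ; rw [h9]; push_cast; ring
  · intro χ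
    have h := irr_one_ne_zero χ.2
    have h' : (χ : G → ℂ) 1 = ((m0 χ + 4 * mA χ + 4 * mB χ : ℕ) : ℂ) := by rw [h5]; push_cast; ring
    rw [h'] at h
    have h'' : m0 χ + 4 * mA χ + 4 * mB χ ≠ 0 := by exact_mod_cast h
    have := Nat.pos_of_ne_zero h''
    exact_mod_cast this
  · intro χ; positivity
  · intro χ; positivity
  · intro χ; positivity
  · intro χ
    have e1 := h1 χ
    have e2 := h2 χ
    simp only [Matrix.cons_val_zero, Matrix.cons_val_one]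
    omega
  · intro χ
    have e1 := h3 χ
    have e2 := h4 χ
    change ((m0 χ - 2 * mA χ + mB χ : ℤ) - (k0p χ - k0m χ - (k1p χ - k1m χ) : ℤ)) % 2 = 0
    omega
  · intro χ h
    have e1 := h1 χ
    change (n0p χ - n0m χ + 2 * (n1p χ - n1m χ) : ℤ) = -2 * (n0p χ - n0m χ - (n1p χ - n1m χ) : ℤ)
    have h' : m0 χ = 0 := by exact_mod_cast h
    have e3 : n0p χ = 0 := by omega
    have e4 : n0m χ = 0 := by omega
    rw [e3, e4]; push_cast; ring

variable {D} (R : Rows D) [Fintype (IrrCharacter G)]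

include R in
theorem Rows.conj_sp (χ : IrrCharacter G) (i : Fin 4) : conj ((χ : G → ℂ) (D.sp i)) = (χ : G → ℂ) (D.sp i) := by
  rw [R.hr]; simp

theorem Rows.orth (i j : Fin 4) : ∑ χ : IrrCharacter G, R.r χ i * R.r χ j = if i = j then (spc i : ℤ) else 0 := by
  classical
  have h : ((∑ χ : IrrCharacter G, R.r χ i * R.r χ j : ℤ) : ℂ) = ((if i = j then (spc i : ℤ) else 0 : ℤ) : ℂ) := by
    push_cast
    have e : ∀ χ : IrrCharacter G, (R.r χ i : ℂ) * R.r χ j = (χ : G → ℂ) (D.sp i) * conj ((χ : G → ℂ) (D.sp j)) := by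
      intro χ; rw [R.conj_sp, R.hr, R.hr]
    rw [Finset.sum_congr rfl fun χ _ => e χ]
    by_cases hij : i = j
    · subst hij
      rw [if_pos rfl, column_orthogonality_of_isConj (IsConj.refl _), D.cen_sp]
    · rw [if_neg hij, column_orthogonality_of_not_isConj (D.sp_not_conj hij)]
  exact_mod_cast h

theorem D9.sp_ne_one (i : Fin 4) : D.sp i ≠ 1 := by
  intro h
  have h4 := D.sp_four i
  rw [h, one_pow] at h4
  have hne : ∀ i, spv i ≠ 0 := by decide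
  exact D.f_ne_one (hne i) h4.symm

theorem Rows.orth_deg (i : Fin 4) : ∑ χ : IrrCharacter G, R.d χ * R.r χ i = 0 := by
  classical
  have h : ((∑ χ : IrrCharacter G, R.d χ * R.r χ i : ℤ) : ℂ) = ((0 : ℤ) : ℂ) := by
    push_cast
    have e : ∀ χ : IrrCharacter G, (R.d χ : ℂ) * R.r χ i = (χ : G → ℂ) 1 * (χ : G → ℂ) (D.sp i) := by
      intro χ; rw [R.hd, R.hr]
    rw [Finset.sum_congr rfl fun χ _ => e χ, sum_degree_mul, if_neg (D9.sp_ne_one i)]
  exact_mod_cast h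

theorem Rows.sum_sq : ∑ χ : IrrCharacter G, R.d χ ^ 2 = (Nat.card G : ℤ) := by
  have h : ((∑ χ : IrrCharacter G, R.d χ ^ 2 : ℤ) : ℂ) = (((Nat.card G : ℕ) : ℤ) : ℂ) := by
    push_cast
    rw [← sum_sq_degree]
    exact Finset.sum_congr rfl fun χ _ => by rw [R.hd]
  exact_mod_cast h

/-- Bessel inequality -/
theorem Rows.bessel (χ : IrrCharacter G) :
    R.r χ 0 ^ 2 + 3 * R.r χ 1 ^ 2 + R.r χ 2 ^ 2 + 3 * R.r χ 3 ^ 2 < 18 := by
  classical
  set a := R.r χ 0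
  set b := R.r χ 1
  set c := R.r χ 2
  set e := R.r χ 3
  let y : IrrCharacter G → ℤ := fun ψ => (if ψ = χ then 18 else 0) -
    (a * R.r ψ 0 + 3 * b * R.r ψ 1 + c * R.r ψ 2 + 3 * e * R.r ψ 3)
  have h00 := R.orth 0 0
  have h01 := R.orth 0 1
  have h02 := R.orth 0 2
  have h03 := R.orth 0 3
  have h11 := R.orth 1 1
  have h12 := R.orth 1 2
  have h13 := R.orth 1 3
  have h22 := R.orth 2 2
  have h23 := R.orth 2 3
  have h33 := R.orth 3 3
  simp only [spc, if_true, if_false, Fin.isValue, reduceIte, Fin.reduceEq] at h00 h01 h02 h03 h11 h12 h13 h22 h23 h33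
  have hsum : ∑ ψ, y ψ ^ 2 = 18 * (18 - (a ^ 2 + 3 * b ^ 2 + c ^ 2 + 3 * e ^ 2)) := by
    have hy : ∀ ψ, y ψ ^ 2 = (if ψ = χ then 324 - 36 * (a * R.r ψ 0 + 3 * b * R.r ψ 1 + c * R.r ψ 2 + 3 * e * R.r ψ 3) else 0) +
        (a ^ 2 * (R.r ψ 0 * R.r ψ 0) + 9 * b ^ 2 * (R.r ψ 1 * R.r ψ 1) + c ^ 2 * (R.r ψ 2 * R.r ψ 2) +
          9 * e ^ 2 * (R.r ψ 3 * R.r ψ 3) + 6 * a * b * (R.r ψ 0 * R.r ψ 1) + 2 * a * c * (R.r ψ 0 * R.r ψ 2) +
          6 * a * e * (R.r ψ 0 * R.r ψ 3) + 6 * b * c * (R.r ψ 1 * R.r ψ 2) + 18 * b * e * (R.r ψ 1 * R.r ψ 3) +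
          6 * c * e * (R.r ψ 2 * R.r ψ 3)) := by
      intro ψ
      simp only [y]
      split_ifs <;> ring
    rw [Finset.sum_congr rfl fun ψ _ => hy ψ, Finset.sum_add_distrib, Finset.sum_ite_eq' Finset.univ χ, if_pos (Finset.mem_univ _)]
    simp only [Finset.sum_add_distrib, ← Finset.mul_sum, h00, h01, h02, h03, h11, h12, h13, h22, h23, h33]
    push_cast
    ring
  have hpos : 0 < ∑ ψ, y ψ ^ 2 := by
    rcases (Finset.sum_nonneg fun ψ _ => sq_nonneg (y ψ)).lt_or_eq with h | h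
    · exact h
    · exfalso
      have h0 : ∀ ψ, y ψ = 0 := by
        intro ψ
        have := (Finset.sum_eq_zero_iff_of_nonneg (fun ψ _ => sq_nonneg (y ψ))).1 h.symm ψ (Finset.mem_univ _)
        simpa using this
      have h1 : ∑ ψ, R.d ψ * y ψ = 18 * R.d χ := by
        have e1 : ∀ ψ, R.d ψ * y ψ = (if ψ = χ then 18 * R.d ψ else 0) - (a * (R.d ψ * R.r ψ 0) + 3 * b * (R.d ψ * R.r ψ 1) +
            c * (R.d ψ * R.r ψ 2) + 3 * e * (R.d ψ * R.r ψ 3)) := by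
          intro ψ
          simp only [y]
          split_ifs <;> ring
        rw [Finset.sum_congr rfl fun ψ _ => e1 ψ, Finset.sum_sub_distrib, Finset.sum_ite_eq' Finset.univ χ,
          if_pos (Finset.mem_univ _)]
        simp only [Finset.sum_add_distrib, ← Finset.mul_sum, R.orth_deg]
        ring
      rw [Finset.sum_eq_zero (fun ψ _ => by rw [h0, mul_zero])] at h1
      have := R.dpos χ
      omega
  rw [hsum] at hpos
  linarith

end

end Cfsg.Agent.Tri3
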