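import Cfsg.Agent.Tri3.Nine.CaseI

/-!
# The other cases
-/

set_option autoImplicit false
set_option linter.unusedSectionVars false
set_option maxHeartbeats 4000000

open scoped ComplexConjugate
open Cfsg Cfsg.Agent.CharBase

namespace Cfsg.Agent.Tri3

section

variable {G : Type*} [Group G] [Finite G] {H : Subgroup G} {D : D9 H} (R : Typed D) [Fintype (IrrCharacter G)]

theorem Typed.caseII 
    (n1 : R.N 1 = 1) (n2 : R.N 2 = 1) (n3 : R.N 3 = 0) (n4 : R.N 4 = 0) (n5 : R.N 5 = 1) (n6 : R.N 6 = 2) (n7 : R.N 7 = 1) (n8 : R.N 8 = 0) (n9 : R.N 9 = 0) (n10 : R.N 10 = 0) (n11 : R.N 11 = 0) (n12 : R.N 12 = 0) (n13 : R.N 13 = 1) (n14 : R.N 14 = 0) (n15 : R.N 15 = 1) :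
    False := by
  have hd0 := R.degS 0
  have hd1 := R.degS 1
  have hd2 := R.degS 2
  have hd3 := R.degS 3
  have haab := R.aab
  have habb := R.abb
  have hsq := R.sqS
  obtain ⟨χ1, f1, t1, s1, q1, i1⟩ := R.one_of n1
  obtain ⟨χ2, f2, t2, s2, q2, i2⟩ := R.one_of n2
  obtain ⟨χ5, f5, t5, s5, q5, i5⟩ := R.one_of n5
  obtain ⟨χ6, χ6', ne6, f6, t6, t6', s6, q6, i6⟩ := R.two_of n6
  obtain ⟨χ7, f7, t7, s7, q7, i7⟩ := R.one_of n7
  obtain ⟨χ13, f13, t13, s13, q13, i13⟩ := R.one_of n13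
  obtain ⟨χ15, f15, t15, s15, q15, i15⟩ := R.one_of n15
  have e1 : χ1 = oneIrr G := by
    have : oneIrr G ∈ R.fib 1 := R.mem_fib.2 R.one_type.1
    rw [f1, Finset.mem_singleton] at this
    exact this.symm
  have u1 : R.sd χ1 = 1 := by
    have h : (oneIrr G : G → ℂ) 1 = 1 := rfl
    rw [R.hd] at h
    unfold Typed.sd
    rw [e1, R.one_type.2, one_mul]
    exact_mod_cast h
  rw [sum16] at hd0 hd1 hd2 hd3 haab habb hsq
  rw [R.SD_zero n3, R.SD_zero n4, R.SD_zero n8, R.SD_zero n9, R.SD_zero n10, R.SD_zero n11, R.SD_zero n12, R.SD_zero n14, s1, s2, s5, s6, s7, s13, s15, u1] at hd0 hd1 hd2 hd3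
  rw [R.SI_zero n3, R.SI_zero n4, R.SI_zero n8, R.SI_zero n9, R.SI_zero n10, R.SI_zero n11, R.SI_zero n12, R.SI_zero n14, i1, i2, i5, i6, i7, i13, i15, u1] at haab habb
  have hS0 := R.SS_nonneg 0
  rw [R.SS_zero n3, R.SS_zero n4, R.SS_zero n8, R.SS_zero n9, R.SS_zero n10, R.SS_zero n11, R.SS_zero n12, R.SS_zero n14, q1, q2, q5, q6, q7, q13, q15, u1] at hsq
  have c2 := R.sd_mod χ2
  have z2 := R.sd_ne χ2
  rw [t2] at c2
  have c5 := R.sd_mod χ5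
  have z5 := R.sd_ne χ5
  rw [t5] at c5
  have c6 := R.sd_mod χ6
  have z6 := R.sd_ne χ6
  rw [t6] at c6
  have c6' := R.sd_mod χ6'
  have z6' := R.sd_ne χ6'
  rw [t6'] at c6'
  have c7 := R.sd_mod χ7
  have z7 := R.sd_ne χ7
  rw [t7] at c7
  have c13 := R.sd_mod χ13
  have z13 := R.sd_ne χ13
  rw [t13] at c13
  have c15 := R.sd_mod χ15
  have z15 := R.sd_ne χ15
  rw [t15] at c15
  simp [TT] at hd0 hd1 hd2 hd3 haab habb c2 c5 c6 c6' c7 c13 c15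
  have hgpos : 0 < (Nat.card G : ℤ) := by exact_mod_cast Nat.card_pos
  have hg0 : (Nat.card G : ℚ) ≠ 0 := by exact_mod_cast Nat.card_pos.ne'
  -- 1/r1 + 1/r2 + 1/r3 = 0
  have h1 : (1 / (R.sd χ6 : ℚ) + 1 / (R.sd χ6' : ℚ)) + 1 / (R.sd χ7 : ℚ) = 0 := by
    have h2 : (Nat.card G : ℚ) * ((1 / (R.sd χ6 : ℚ) + 1 / (R.sd χ6' : ℚ)) + 1 / (R.sd χ7 : ℚ)) = 0 := by
      simp only [one_div]
      linear_combination (-1 / 6) * haab - (-1 / 6) * habb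
    exact (mul_eq_zero.1 h2).resolve_left hg0
  have y1 : (R.sd χ6 : ℚ) ≠ 0 := by exact_mod_cast z6
  have y2 : (R.sd χ6' : ℚ) ≠ 0 := by exact_mod_cast z6'
  have y3 : (R.sd χ7 : ℚ) ≠ 0 := by exact_mod_cast z7
  have h2 : (R.sd χ6 + R.sd χ6') * R.sd χ7 + R.sd χ6 * R.sd χ6' = 0 := by
    have : (((R.sd χ6 + R.sd χ6') * R.sd χ7 + R.sd χ6 * R.sd χ6' : ℤ) : ℚ) = 0 := by
      push_cast
      field_simp at h1
      linear_combination h1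
    exact_mod_cast this
  clear haab habb
  obtain ⟨x, hx⟩ : ∃ x, R.sd χ6 = 4 + 9 * x := ⟨(R.sd χ6 - 4) / 9, by omega⟩
  obtain ⟨y, hy⟩ : ∃ y, R.sd χ6' = 4 + 9 * y := ⟨(R.sd χ6' - 4) / 9, by omega⟩
  obtain ⟨z, hz⟩ : ∃ z, R.sd χ7 = 4 + 9 * z := ⟨(R.sd χ7 - 4) / 9, by omega⟩
  rw [hx, hy, hz] at h2
  have h3 : 48 + 9 * (8 * x + 8 * y + 8 * z + 9 * (x * z + y * z + x * y)) = 0 := by linear_combination h2
  omega

theorem Typed.caseII' 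
    (n1 : R.N 1 = 1) (n2 : R.N 2 = 0) (n3 : R.N 3 = 1) (n4 : R.N 4 = 0) (n5 : R.N 5 = 1) (n6 : R.N 6 = 0) (n7 : R.N 7 = 0) (n8 : R.N 8 = 2) (n9 : R.N 9 = 1) (n10 : R.N 10 = 0) (n11 : R.N 11 = 1) (n12 : R.N 12 = 0) (n13 : R.N 13 = 0) (n14 : R.N 14 = 1) (n15 : R.N 15 = 0) :
    False := by
  have hd0 := R.degS 0
  have hd1 := R.degS 1
  have hd2 := R.degS 2
  have hd3 := R.degS 3
  have haab := R.aab
  have habb := R.abb
  have hsq := R.sqS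
  obtain ⟨χ1, f1, t1, s1, q1, i1⟩ := R.one_of n1
  obtain ⟨χ3, f3, t3, s3, q3, i3⟩ := R.one_of n3
  obtain ⟨χ5, f5, t5, s5, q5, i5⟩ := R.one_of n5
  obtain ⟨χ8, χ8', ne8, f8, t8, t8', s8, q8, i8⟩ := R.two_of n8
  obtain ⟨χ9, f9, t9, s9, q9, i9⟩ := R.one_of n9
  obtain ⟨χ11, f11, t11, s11, q11, i11⟩ := R.one_of n11
  obtain ⟨χ14, f14, t14, s14, q14, i14⟩ := R.one_of n14
  have e1 : χ1 = oneIrr G := by
    have : oneIrr G ∈ R.fib 1 := R.mem_fib.2 R.one_type.1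
    rw [f1, Finset.mem_singleton] at this
    exact this.symm
  have u1 : R.sd χ1 = 1 := by
    have h : (oneIrr G : G → ℂ) 1 = 1 := rfl
    rw [R.hd] at h
    unfold Typed.sd
    rw [e1, R.one_type.2, one_mul]
    exact_mod_cast h
  rw [sum16] at hd0 hd1 hd2 hd3 haab habb hsq
  rw [R.SD_zero n2, R.SD_zero n4, R.SD_zero n6, R.SD_zero n7, R.SD_zero n10, R.SD_zero n12, R.SD_zero n13, R.SD_zero n15, s1, s3, s5, s8, s9, s11, s14, u1] at hd0 hd1 hd2 hd3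
  rw [R.SI_zero n2, R.SI_zero n4, R.SI_zero n6, R.SI_zero n7, R.SI_zero n10, R.SI_zero n12, R.SI_zero n13, R.SI_zero n15, i1, i3, i5, i8, i9, i11, i14, u1] at haab habb
  have hS0 := R.SS_nonneg 0
  rw [R.SS_zero n2, R.SS_zero n4, R.SS_zero n6, R.SS_zero n7, R.SS_zero n10, R.SS_zero n12, R.SS_zero n13, R.SS_zero n15, q1, q3, q5, q8, q9, q11, q14, u1] at hsq
  have c3 := R.sd_mod χ3
  have z3 := R.sd_ne χ3
  rw [t3] at c3
  have c5 := R.sd_mod χ5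
  have z5 := R.sd_ne χ5
  rw [t5] at c5
  have c8 := R.sd_mod χ8
  have z8 := R.sd_ne χ8
  rw [t8] at c8
  have c8' := R.sd_mod χ8'
  have z8' := R.sd_ne χ8'
  rw [t8'] at c8'
  have c9 := R.sd_mod χ9
  have z9 := R.sd_ne χ9
  rw [t9] at c9
  have c11 := R.sd_mod χ11
  have z11 := R.sd_ne χ11
  rw [t11] at c11
  have c14 := R.sd_mod χ14
  have z14 := R.sd_ne χ14
  rw [t14] at c14
  simp [TT] at hd0 hd1 hd2 hd3 haab habb c3 c5 c8 c8' c9 c11 c14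
  have hgpos : 0 < (Nat.card G : ℤ) := by exact_mod_cast Nat.card_pos
  have hg0 : (Nat.card G : ℚ) ≠ 0 := by exact_mod_cast Nat.card_pos.ne'
  -- 1/r1 + 1/r2 + 1/r3 = 0
  have h1 : (1 / (R.sd χ8 : ℚ) + 1 / (R.sd χ8' : ℚ)) + 1 / (R.sd χ9 : ℚ) = 0 := by
    have h2 : (Nat.card G : ℚ) * ((1 / (R.sd χ8 : ℚ) + 1 / (R.sd χ8' : ℚ)) + 1 / (R.sd χ9 : ℚ)) = 0 := by
      simp only [one_div]
      linear_combination (1 / 6) * haab - (1 / 6) * habb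
    exact (mul_eq_zero.1 h2).resolve_left hg0
  have y1 : (R.sd χ8 : ℚ) ≠ 0 := by exact_mod_cast z8
  have y2 : (R.sd χ8' : ℚ) ≠ 0 := by exact_mod_cast z8'
  have y3 : (R.sd χ9 : ℚ) ≠ 0 := by exact_mod_cast z9
  have h2 : (R.sd χ8 + R.sd χ8') * R.sd χ9 + R.sd χ8 * R.sd χ8' = 0 := by
    have : (((R.sd χ8 + R.sd χ8') * R.sd χ9 + R.sd χ8 * R.sd χ8' : ℤ) : ℚ) = 0 := by
      push_cast
      field_simp at h1
      linear_combination h1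
    exact_mod_cast this
  clear haab habb
  obtain ⟨x, hx⟩ : ∃ x, R.sd χ8 = 4 + 9 * x := ⟨(R.sd χ8 - 4) / 9, by omega⟩
  obtain ⟨y, hy⟩ : ∃ y, R.sd χ8' = 4 + 9 * y := ⟨(R.sd χ8' - 4) / 9, by omega⟩
  obtain ⟨z, hz⟩ : ∃ z, R.sd χ9 = 4 + 9 * z := ⟨(R.sd χ9 - 4) / 9, by omega⟩
  rw [hx, hy, hz] at h2
  have h3 : 48 + 9 * (8 * x + 8 * y + 8 * z + 9 * (x * z + y * z + x * y)) = 0 := by linear_combination h2
  omega

theorem Typed.caseIIIa (hFr : ∀ N : Subgroup G, N.Normal → H ≤ N → N = ⊤)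
    (n1 : R.N 1 = 2) (n2 : R.N 2 = 1) (n3 : R.N 3 = 1) (n4 : R.N 4 = 0) (n5 : R.N 5 = 0) (n6 : R.N 6 = 1) (n7 : R.N 7 = 0) (n8 : R.N 8 = 1) (n9 : R.N 9 = 0) (n10 : R.N 10 = 0) (n11 : R.N 11 = 1) (n12 : R.N 12 = 0) (n13 : R.N 13 = 1) (n14 : R.N 14 = 0) (n15 : R.N 15 = 0) :
    False := by
  have hd0 := R.degS 0
  have hd1 := R.degS 1
  have hd2 := R.degS 2
  have hd3 := R.degS 3
  have haab := R.aab
  have habb := R.abb
  have hsq := R.sqS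
  obtain ⟨χ1, χ1', ne1, f1, t1, t1', s1, q1, i1⟩ := R.two_of n1
  obtain ⟨χ2, f2, t2, s2, q2, i2⟩ := R.one_of n2
  obtain ⟨χ3, f3, t3, s3, q3, i3⟩ := R.one_of n3
  obtain ⟨χ6, f6, t6, s6, q6, i6⟩ := R.one_of n6
  obtain ⟨χ8, f8, t8, s8, q8, i8⟩ := R.one_of n8
  obtain ⟨χ11, f11, t11, s11, q11, i11⟩ := R.one_of n11
  obtain ⟨χ13, f13, t13, s13, q13, i13⟩ := R.one_of n13
  have hone : R.sd (oneIrr G) = 1 := by
    have h : (oneIrr G : G → ℂ) 1 = 1 := rfl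
    rw [R.hd] at h
    unfold Typed.sd
    rw [R.one_type.2, one_mul]
    exact_mod_cast h
  rw [sum16] at hd0 hd1 hd2 hd3 haab habb hsq
  rw [R.SD_zero n4, R.SD_zero n5, R.SD_zero n7, R.SD_zero n9, R.SD_zero n10, R.SD_zero n12, R.SD_zero n14, R.SD_zero n15, s1, s2, s3, s6, s8, s11, s13] at hd0 hd1 hd2 hd3
  rw [R.SI_zero n4, R.SI_zero n5, R.SI_zero n7, R.SI_zero n9, R.SI_zero n10, R.SI_zero n12, R.SI_zero n14, R.SI_zero n15, i1, i2, i3, i6, i8, i11, i13] at haab habb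
  have hS0 := R.SS_nonneg 0
  rw [R.SS_zero n4, R.SS_zero n5, R.SS_zero n7, R.SS_zero n9, R.SS_zero n10, R.SS_zero n12, R.SS_zero n14, R.SS_zero n15, q1, q2, q3, q6, q8, q11, q13] at hsq
  have c1 := R.sd_mod χ1
  have z1 := R.sd_ne χ1
  rw [t1] at c1
  have c1' := R.sd_mod χ1'
  have z1' := R.sd_ne χ1'
  rw [t1'] at c1'
  have c2 := R.sd_mod χ2
  have z2 := R.sd_ne χ2
  rw [t2] at c2
  have c3 := R.sd_mod χ3
  have z3 := R.sd_ne χ3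
  rw [t3] at c3
  have c6 := R.sd_mod χ6
  have z6 := R.sd_ne χ6
  rw [t6] at c6
  have c8 := R.sd_mod χ8
  have z8 := R.sd_ne χ8
  rw [t8] at c8
  have c11 := R.sd_mod χ11
  have z11 := R.sd_ne χ11
  rw [t11] at c11
  have c13 := R.sd_mod χ13
  have z13 := R.sd_ne χ13
  rw [t13] at c13
  simp [TT] at hd0 hd1 hd2 hd3 haab habb c1 c1' c2 c3 c6 c8 c11 c13
  have hgpos : 0 < (Nat.card G : ℤ) := by exact_mod_cast Nat.card_pos
  have hg0 : (Nat.card G : ℚ) ≠ 0 := by exact_mod_cast Nat.card_pos.ne'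
  have hthe : ∃ χe, χe ≠ oneIrr G ∧ R.ty χe = 1 ∧ R.sd χ1 + R.sd χ1' = 1 + R.sd χe ∧
      R.sd χ1 ^ 2 + R.sd χ1' ^ 2 = 1 + R.sd χe ^ 2 ∧
      (1 / (R.sd χ1 : ℚ)) + 1 / (R.sd χ1' : ℚ) = 1 + 1 / (R.sd χe : ℚ) := by
    rcases f1 _ R.one_type.1 with h | h
    · refine ⟨χ1', ?_, t1', ?_, ?_, ?_⟩
      · rw [h]; exact ne1.symm
      · rw [← h, hone]
      · rw [← h, hone]; ring
      · rw [← h, hone]; norm_num
    · refine ⟨χ1, ?_, t1, ?_, ?_, ?_⟩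
      · rw [h]; exact ne1
      · rw [← h, hone]; ring
      · rw [← h, hone]; ring
      · rw [← h, hone]; norm_num; ring
  obtain ⟨χe, hne, tye, hs1, hs2, hs3⟩ := hthe
  simp only [one_div] at hs3
  have ce := R.sd_mod χe
  rw [tye] at ce
  simp [TT] at ce
  have hru : R.sd χ6 = R.sd χ8 := by
    have h1 : (1 / (R.sd χ6 : ℚ)) = 1 / (R.sd χ8 : ℚ) := by
      have h2 : (Nat.card G : ℚ) * ((1 / (R.sd χ6 : ℚ)) - 1 / (R.sd χ8 : ℚ)) = 0 := by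
        simp only [one_div]
        linear_combination (-1 / 6) * haab + (1 / 6) * habb
      have h3 := (mul_eq_zero.1 h2).resolve_left hg0
      linear_combination h3
    rw [one_div, one_div, inv_inj] at h1
    exact_mod_cast h1
  have he1 : R.sd χe ≠ 1 := by
    intro h
    exact hne (R.triv_of_type1 hFr (R.d_of_sd_one h) tye)
  have ka : R.sd χ2 = -2 * (1 + R.sd χe) - R.sd χ6 := by omega
  have kb : R.sd χ3 = R.sd χ2 := by omega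
  have kw : R.sd χ13 = 1 + R.sd χe + R.sd χ6 := by omega
  have kv : R.sd χ11 = R.sd χ13 := by omega
  refine num_III (g := Nat.card G) (e := R.sd χe) (a := R.sd χ2) (r := R.sd χ6) (w := R.sd χ13) hgpos (by omega) he1
    (by omega) ka kw ?_ ?_
  · rw [kb, ← hru] at haab
    push_cast at haab ⊢
    simp only [one_div]
    linear_combination haab - (Nat.card G : ℚ) * hs3
  · rw [kb, kv, ← hru] at hsq
    linarith

theorem Typed.caseIIIb 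
    (n1 : R.N 1 = 1) (n2 : R.N 2 = 2) (n3 : R.N 3 = 0) (n4 : R.N 4 = 1) (n5 : R.N 5 = 0) (n6 : R.N 6 = 1) (n7 : R.N 7 = 0) (n8 : R.N 8 = 0) (n9 : R.N 9 = 1) (n10 : R.N 10 = 1) (n11 : R.N 11 = 0) (n12 : R.N 12 = 0) (n13 : R.N 13 = 1) (n14 : R.N 14 = 0) (n15 : R.N 15 = 0) :
    False := by
  have hd0 := R.degS 0
  have hd1 := R.degS 1
  have hd2 := R.degS 2
  have hd3 := R.degS 3
  have haab := R.aab
  have habb := R.abb
  have hsq := R.sqS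
  obtain ⟨χ1, f1, t1, s1, q1, i1⟩ := R.one_of n1
  obtain ⟨χ2, χ2', ne2, f2, t2, t2', s2, q2, i2⟩ := R.two_of n2
  obtain ⟨χ4, f4, t4, s4, q4, i4⟩ := R.one_of n4
  obtain ⟨χ6, f6, t6, s6, q6, i6⟩ := R.one_of n6
  obtain ⟨χ9, f9, t9, s9, q9, i9⟩ := R.one_of n9
  obtain ⟨χ10, f10, t10, s10, q10, i10⟩ := R.one_of n10
  obtain ⟨χ13, f13, t13, s13, q13, i13⟩ := R.one_of n13
  have e1 : χ1 = oneIrr G := by
    have : oneIrr G ∈ R.fib 1 := R.mem_fib.2 R.one_type.1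
    rw [f1, Finset.mem_singleton] at this
    exact this.symm
  have u1 : R.sd χ1 = 1 := by
    have h : (oneIrr G : G → ℂ) 1 = 1 := rfl
    rw [R.hd] at h
    unfold Typed.sd
    rw [e1, R.one_type.2, one_mul]
    exact_mod_cast h
  rw [sum16] at hd0 hd1 hd2 hd3 haab habb hsq
  rw [R.SD_zero n3, R.SD_zero n5, R.SD_zero n7, R.SD_zero n8, R.SD_zero n11, R.SD_zero n12, R.SD_zero n14, R.SD_zero n15, s1, s2, s4, s6, s9, s10, s13, u1] at hd0 hd1 hd2 hd3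
  rw [R.SI_zero n3, R.SI_zero n5, R.SI_zero n7, R.SI_zero n8, R.SI_zero n11, R.SI_zero n12, R.SI_zero n14, R.SI_zero n15, i1, i2, i4, i6, i9, i10, i13, u1] at haab habb
  have hS0 := R.SS_nonneg 0
  rw [R.SS_zero n3, R.SS_zero n5, R.SS_zero n7, R.SS_zero n8, R.SS_zero n11, R.SS_zero n12, R.SS_zero n14, R.SS_zero n15, q1, q2, q4, q6, q9, q10, q13, u1] at hsq
  have c2 := R.sd_mod χ2
  have z2 := R.sd_ne χ2
  rw [t2] at c2
  have c2' := R.sd_mod χ2'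
  have z2' := R.sd_ne χ2'
  rw [t2'] at c2'
  have c4 := R.sd_mod χ4
  have z4 := R.sd_ne χ4
  rw [t4] at c4
  have c6 := R.sd_mod χ6
  have z6 := R.sd_ne χ6
  rw [t6] at c6
  have c9 := R.sd_mod χ9
  have z9 := R.sd_ne χ9
  rw [t9] at c9
  have c10 := R.sd_mod χ10
  have z10 := R.sd_ne χ10
  rw [t10] at c10
  have c13 := R.sd_mod χ13
  have z13 := R.sd_ne χ13
  rw [t13] at c13
  simp [TT] at hd0 hd1 hd2 hd3 haab habb c2 c2' c4 c6 c9 c10 c13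
  have hgpos : 0 < (Nat.card G : ℤ) := by exact_mod_cast Nat.card_pos
  have hg0 : (Nat.card G : ℚ) ≠ 0 := by exact_mod_cast Nat.card_pos.ne'
  have hru : R.sd χ6 = R.sd χ9 := by
    have h1 : (1 / (R.sd χ6 : ℚ)) = 1 / (R.sd χ9 : ℚ) := by
      have h2 : (Nat.card G : ℚ) * ((1 / (R.sd χ6 : ℚ)) - 1 / (R.sd χ9 : ℚ)) = 0 := by
        simp only [one_div]
        linear_combination (-1 / 6) * haab + (1 / 6) * habb
      have h3 := (mul_eq_zero.1 h2).resolve_left hg0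
      linear_combination h3
    rw [one_div, one_div, inv_inj] at h1
    exact_mod_cast h1
  have hc1 : R.sd χ4 = 1 := by omega
  have hd4 := R.d_of_sd_one hc1
  obtain ⟨φ, h1, h2⟩ := R.tensor_type (ψ := χ2) hd4 3 (by decide) (by rw [t4, t2]; decide)
  have h3 : φ ∈ R.fib 3 := R.mem_fib.2 h1
  rw [R.fib_zero n3] at h3
  simp at h3

theorem Typed.caseIIIb' 
    (n1 : R.N 1 = 1) (n2 : R.N 2 = 0) (n3 : R.N 3 = 2) (n4 : R.N 4 = 1) (n5 : R.N 5 = 0) (n6 : R.N 6 = 0) (n7 : R.N 7 = 1) (n8 : R.N 8 = 1) (n9 : R.N 9 = 0) (n10 : R.N 10 = 0) (n11 : R.N 11 = 1) (n12 : R.N 12 = 1) (n13 : R.N 13 = 0) (n14 : R.N 14 = 0) (n15 : R.N 15 = 0) :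
    False := by
  have hd0 := R.degS 0
  have hd1 := R.degS 1
  have hd2 := R.degS 2
  have hd3 := R.degS 3
  have haab := R.aab
  have habb := R.abb
  have hsq := R.sqS
  obtain ⟨χ1, f1, t1, s1, q1, i1⟩ := R.one_of n1
  obtain ⟨χ3, χ3', ne3, f3, t3, t3', s3, q3, i3⟩ := R.two_of n3
  obtain ⟨χ4, f4, t4, s4, q4, i4⟩ := R.one_of n4
  obtain ⟨χ7, f7, t7, s7, q7, i7⟩ := R.one_of n7
  obtain ⟨χ8, f8, t8, s8, q8, i8⟩ := R.one_of n8
  obtain ⟨χ11, f11, t11, s11, q11, i11⟩ := R.one_of n11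
  obtain ⟨χ12, f12, t12, s12, q12, i12⟩ := R.one_of n12
  have e1 : χ1 = oneIrr G := by
    have : oneIrr G ∈ R.fib 1 := R.mem_fib.2 R.one_type.1
    rw [f1, Finset.mem_singleton] at this
    exact this.symm
  have u1 : R.sd χ1 = 1 := by
    have h : (oneIrr G : G → ℂ) 1 = 1 := rfl
    rw [R.hd] at h
    unfold Typed.sd
    rw [e1, R.one_type.2, one_mul]
    exact_mod_cast h
  rw [sum16] at hd0 hd1 hd2 hd3 haab habb hsq
  rw [R.SD_zero n2, R.SD_zero n5, R.SD_zero n6, R.SD_zero n9, R.SD_zero n10, R.SD_zero n13, R.SD_zero n14, R.SD_zero n15, s1, s3, s4, s7, s8, s11, s12, u1] at hd0 hd1 hd2 hd3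
  rw [R.SI_zero n2, R.SI_zero n5, R.SI_zero n6, R.SI_zero n9, R.SI_zero n10, R.SI_zero n13, R.SI_zero n14, R.SI_zero n15, i1, i3, i4, i7, i8, i11, i12, u1] at haab habb
  have hS0 := R.SS_nonneg 0
  rw [R.SS_zero n2, R.SS_zero n5, R.SS_zero n6, R.SS_zero n9, R.SS_zero n10, R.SS_zero n13, R.SS_zero n14, R.SS_zero n15, q1, q3, q4, q7, q8, q11, q12, u1] at hsq
  have c3 := R.sd_mod χ3
  have z3 := R.sd_ne χ3
  rw [t3] at c3
  have c3' := R.sd_mod χ3'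
  have z3' := R.sd_ne χ3'
  rw [t3'] at c3'
  have c4 := R.sd_mod χ4
  have z4 := R.sd_ne χ4
  rw [t4] at c4
  have c7 := R.sd_mod χ7
  have z7 := R.sd_ne χ7
  rw [t7] at c7
  have c8 := R.sd_mod χ8
  have z8 := R.sd_ne χ8
  rw [t8] at c8
  have c11 := R.sd_mod χ11
  have z11 := R.sd_ne χ11
  rw [t11] at c11
  have c12 := R.sd_mod χ12
  have z12 := R.sd_ne χ12
  rw [t12] at c12
  simp [TT] at hd0 hd1 hd2 hd3 haab habb c3 c3' c4 c7 c8 c11 c12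
  have hgpos : 0 < (Nat.card G : ℤ) := by exact_mod_cast Nat.card_pos
  have hg0 : (Nat.card G : ℚ) ≠ 0 := by exact_mod_cast Nat.card_pos.ne'
  have hru : R.sd χ7 = R.sd χ8 := by
    have h1 : (1 / (R.sd χ7 : ℚ)) = 1 / (R.sd χ8 : ℚ) := by
      have h2 : (Nat.card G : ℚ) * ((1 / (R.sd χ7 : ℚ)) - 1 / (R.sd χ8 : ℚ)) = 0 := by
        simp only [one_div]
        linear_combination (-1 / 6) * haab + (1 / 6) * habb
      have h3 := (mul_eq_zero.1 h2).resolve_left hg0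
      linear_combination h3
    rw [one_div, one_div, inv_inj] at h1
    exact_mod_cast h1
  have hc1 : R.sd χ4 = 1 := by omega
  have hd4 := R.d_of_sd_one hc1
  obtain ⟨φ, h1, h2⟩ := R.tensor_type (ψ := χ3) hd4 2 (by decide) (by rw [t4, t3]; decide)
  have h3 : φ ∈ R.fib 2 := R.mem_fib.2 h1
  rw [R.fib_zero n2] at h3
  simp at h3


/-- The order of a group with `3² : D₈`. -/
theorem Typed.main (hFr : ∀ N : Subgroup G, N.Normal → H ≤ N → N = ⊤) :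
    Nat.card G = 72 ∨ (Nat.card G = 720 ∧ (∃ χ : IrrCharacter G, R.d χ = 1 ∧ R.ty χ = 4) ∧
      ∀ ψ : IrrCharacter G, R.d ψ = 1 → R.ty ψ = 1 ∨ R.ty ψ = 4) := by
  rcases R.cases with h | h | h | h | h | h
  · obtain ⟨h1, h2, h3, h4, h5, h6, h7, h8, h9, h10, h11, h12, h13, h14, h15⟩ := h
    exact R.caseI hFr h1 h2 h3 h4 h5 h6 h7 h8 h9 h10 h11 h12 h13 h14 h15
  · obtain ⟨h1, h2, h3, h4, h5, h6, h7, h8, h9, h10, h11, h12, h13, h14, h15⟩ := h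
    exact (R.caseII h1 h2 h3 h4 h5 h6 h7 h8 h9 h10 h11 h12 h13 h14 h15).elim
  · obtain ⟨h1, h2, h3, h4, h5, h6, h7, h8, h9, h10, h11, h12, h13, h14, h15⟩ := h
    exact (R.caseII' h1 h2 h3 h4 h5 h6 h7 h8 h9 h10 h11 h12 h13 h14 h15).elim
  · obtain ⟨h1, h2, h3, h4, h5, h6, h7, h8, h9, h10, h11, h12, h13, h14, h15⟩ := h
    exact (R.caseIIIa hFr h1 h2 h3 h4 h5 h6 h7 h8 h9 h10 h11 h12 h13 h14 h15).elim
  · obtain ⟨h1, h2, h3, h4, h5, h6, h7, h8, h9, h10, h11, h12, h13, h14, h15⟩ := h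
    exact (R.caseIIIb h1 h2 h3 h4 h5 h6 h7 h8 h9 h10 h11 h12 h13 h14 h15).elim
  · obtain ⟨h1, h2, h3, h4, h5, h6, h7, h8, h9, h10, h11, h12, h13, h14, h15⟩ := h
    exact (R.caseIIIb' h1 h2 h3 h4 h5 h6 h7 h8 h9 h10 h11 h12 h13 h14 h15).elim

end

end Cfsg.Agent.Tri3
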