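import Mathlib

/-!
# The number theory for `3² : D₈`
-/

set_option autoImplicit false
set_option linter.unusedSectionVars false

namespace Cfsg.Agent.Tri3

/-- the check for the perfect case -/
def chkP (a r rp : ℤ) : Bool :=
  let m := rp - 1 - a
  let c := r - rp + 1
  let c1 := a * c * m * r * rp + 2 * c * m * r * rp + a * m * r * rp + 8 * a * c * r * rp + 2 * a * c * m * rp + 2 * a * c * m * r
  let c2 := 648 * a * c * m * r * rp
  let S := 1 + 2 * a * a + c * c + m * m + 2 * r * r + 2 * rp * rp
  a == 1 || a == -8 || r == 4 || rp == 4 || c == 1 || c == -8 || m == -7 || c1 == 0 || c2 % c1 != 0 || decide (c2 / c1 < S)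

def chkPAll : Bool := (List.range 25).all fun k => (List.range 25).all fun i => (List.range 25).all fun j =>
  chkP (1 + 9 * ((k : ℤ) - 12)) (4 + 9 * ((i : ℤ) - 12)) (4 + 9 * ((j : ℤ) - 12))

theorem chkPAll_true : chkPAll = true := by decide +kernel

end Cfsg.Agent.Tri3
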