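import Cfsg.Agent.Tri3.Nine.Num

/-!
# The number theory for `3² : D₈`, continued
-/

set_option autoImplicit false
set_option linter.unusedSectionVars false
set_option maxHeartbeats 1000000

namespace Cfsg.Agent.Tri3

theorem recip_ge {x : ℤ} {n : ℤ} (hn : 0 < n) (h : x ≤ -n ∨ 1 ≤ x) : -(1 / (n : ℚ)) ≤ 1 / (x : ℚ) := by
  have hn' : (0 : ℚ) < n := by exact_mod_cast hn
  rcases h with h | h
  · have h' : (x : ℚ) ≤ -n := by exact_mod_cast h
    have hx : (x : ℚ) < 0 := by linarith
    rw [← sub_nonneg]
    have : 1 / (x : ℚ) - -(1 / (n : ℚ)) = (n + x) / (x * n) := by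
      have := hx.ne; field_simp; ring
    rw [this]
    apply div_nonneg_of_nonpos (by linarith)
    exact (mul_neg_of_neg_of_pos hx hn').le
  · have : (0 : ℚ) < 1 / (x : ℚ) := by
      have : (0 : ℚ) < x := by exact_mod_cast h
      positivity
    have h2 : (0 : ℚ) < 1 / n := by positivity
    linarith

theorem recip_pos {x : ℤ} (h : 1 ≤ x) : 0 < 1 / (x : ℚ) := by
  have : (0 : ℚ) < x := by exact_mod_cast h
  positivity

theorem abs_bound {x B : ℤ} (hB : 0 ≤ B) (h : x ^ 2 ≤ B ^ 2) : -B ≤ x ∧ x ≤ B := abs_le.1 (abs_le_of_sq_le_sq h hB)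

/-- bound for `g` -/
theorem g_bound {g : ℤ} {s : ℚ} (hg : 0 < g) (h : (g : ℚ) * s = 648) (hs : 9 / 238 ≤ s) : g ≤ 17136 := by
  have hg' : (0 : ℚ) < g := by exact_mod_cast hg
  have : (g : ℚ) * (9 / 238) ≤ 648 := by rw [← h]; exact mul_le_mul_of_nonneg_left hs hg'.le
  have h2 : (g : ℚ) ≤ 17136 := by linarith
  exact_mod_cast h2

theorem num_P {g a c m r rp : ℤ} (hg : 0 < g) (ha : (a - 1) % 9 = 0) (hm : (m - 2) % 9 = 0)
    (hrr : (r - 4) % 9 = 0) (hrpr : (rp - 4) % 9 = 0)
    (hr : r = a + c + m) (hrp : rp = 1 + a + m) (ha1 : a ≠ 1) (ha8 : a ≠ -8) (hc1 : c ≠ 1) (hc8 : c ≠ -8) (hm7 : m ≠ -7)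
    (hr4 : r ≠ 4) (hrp4 : rp ≠ 4)
    (heq : (g : ℚ) * (1 + 2 * (1 / a) + 1 / c + 8 * (1 / m) + 2 * (1 / r) + 2 * (1 / rp)) = 648)
    (hsq : 1 + 2 * a ^ 2 + c ^ 2 + m ^ 2 + 2 * r ^ 2 + 2 * rp ^ 2 ≤ g) : False := by
  have hcc : (c - 1) % 9 = 0 := by omega
  have hc : c = r - rp + 1 := by omega
  have hmm : m = rp - 1 - a := by omega
  have Ra := recip_ge (x := a) (n := 17) (by norm_num) (by omega)
  have Rc := recip_ge (x := c) (n := 17) (by norm_num) (by omega)
  have Rm := recip_ge (x := m) (n := 16) (by norm_num) (by omega)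
  have Rr := recip_ge (x := r) (n := 5) (by norm_num) (by omega)
  have Rrp := recip_ge (x := rp) (n := 5) (by norm_num) (by omega)
  push_cast at Ra Rc Rm Rr Rrp
  -- the bounds
  have hbox : (-107 ≤ a ∧ a ≤ 107) ∧ (-107 ≤ r ∧ r ≤ 107) ∧ (-107 ≤ rp ∧ rp ≤ 107) := by
    have hfin : 9 / 238 ≤ (1 + 2 * (1 / (a : ℚ)) + 1 / c + 8 * (1 / m) + 2 * (1 / r) + 2 * (1 / rp)) →
        (-107 ≤ a ∧ a ≤ 107) ∧ (-107 ≤ r ∧ r ≤ 107) ∧ (-107 ≤ rp ∧ rp ≤ 107) := by
      intro hs
      have h1 := g_bound hg heq hs
      refine ⟨?_, ?_, ?_⟩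
      · have := abs_bound (x := a) (B := 107) (by norm_num) (by nlinarith [sq_nonneg c, sq_nonneg m, sq_nonneg r, sq_nonneg rp])
        omega
      · have := abs_bound (x := r) (B := 107) (by norm_num) (by nlinarith [sq_nonneg c, sq_nonneg m, sq_nonneg a, sq_nonneg rp])
        omega
      · have := abs_bound (x := rp) (B := 107) (by norm_num) (by nlinarith [sq_nonneg c, sq_nonneg m, sq_nonneg r, sq_nonneg a])
        omega
    by_cases h5 : r = -5
    · -- case C
      by_cases hm16 : m = -16
      · have ea : a = rp + 15 := by omega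
        have ec : c = -4 - rp := by omega
        by_cases hpos : 13 ≤ rp
        · apply hfin
          have k1 := recip_pos (x := rp) (by omega)
          have k2 := recip_pos (x := a) (by omega)
          rw [h5, hm16]
          push_cast
          linarith
        · by_cases hneg : -107 ≤ rp
          · refine ⟨by omega, by omega, by omega⟩
          · apply hfin
            have k1 := recip_ge (x := a) (n := 90) (by norm_num) (by omega)
            have k2 := recip_ge (x := rp) (n := 107) (by norm_num) (by omega)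
            have k3 := recip_pos (x := c) (by omega)
            rw [h5, hm16]
            push_cast at k1 k2 ⊢
            linarith
      · apply hfin
        have km := recip_ge (x := m) (n := 25) (by norm_num) (by omega)
        push_cast at km
        by_cases hpos : 13 ≤ rp
        · have k1 := recip_pos (x := rp) (by omega)
          rw [h5]
          push_cast
          linarith
        · have k1 := recip_ge (x := rp) (n := 14) (by norm_num) (by omega)
          have ec : c = -4 - rp := by omega
          have k2 : 0 ≤ 1 / (c : ℚ) + 1 / (rp : ℚ) := by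
            have c1 : (0 : ℚ) < c := by
              have : 0 < c := by omega
              exact_mod_cast this
            have c2 : (rp : ℚ) < 0 := by
              have : rp < 0 := by omega
              exact_mod_cast this
            have : 1 / (c : ℚ) + 1 / (rp : ℚ) = (c + rp) / (c * rp) := by
              have h1 := c1.ne'
              have h2 := c2.ne
              field_simp
              ring
            rw [this]
            apply div_nonneg_of_nonpos
            · have : c + rp ≤ 0 := by omega
              exact_mod_cast this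
            · exact (mul_neg_of_pos_of_neg c1 c2).le
          rw [h5]
          push_cast at k1 ⊢
          linarith
    · have kr := recip_ge (x := r) (n := 14) (by norm_num) (by omega)
      push_cast at kr
      apply hfin
      by_cases h5' : rp = -5
      · have em : m = -6 - a := by omega
        by_cases hm16 : m = -16
        · have ea : a = 10 := by omega
          rw [h5', hm16, ea]
          push_cast
          linarith
        · by_cases hmp : m ≤ -25
          · have km := recip_ge (x := m) (n := 25) (by norm_num) (by omega)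
            have ka := recip_pos (x := a) (by omega)
            rw [h5']
            push_cast at km ⊢
            linarith
          · have km := recip_pos (x := m) (by omega)
            rw [h5']
            push_cast
            linarith
      · have krp := recip_ge (x := rp) (n := 14) (by norm_num) (by omega)
        push_cast at krp
        linarith
  obtain ⟨⟨b1, b2⟩, ⟨b3, b4⟩, b5, b6⟩ := hbox
  -- the check
  obtain ⟨k, hk⟩ : ∃ k : ℕ, a = 1 + 9 * ((k : ℤ) - 12) := ⟨((a - 1) / 9 + 12).toNat, by omega⟩
  obtain ⟨i, hi⟩ : ∃ i : ℕ, r = 4 + 9 * ((i : ℤ) - 12) := ⟨((r - 4) / 9 + 12).toNat, by omega⟩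
  obtain ⟨j, hj⟩ : ∃ j : ℕ, rp = 4 + 9 * ((j : ℤ) - 12) := ⟨((rp - 4) / 9 + 12).toNat, by omega⟩
  have hck : chkP a r rp = true := by
    have h := chkPAll_true
    unfold chkPAll at h
    rw [List.all_eq_true] at h
    have h1 := h k (List.mem_range.2 (by omega))
    rw [List.all_eq_true] at h1
    have h2 := h1 i (List.mem_range.2 (by omega))
    rw [List.all_eq_true] at h2
    have h3 := h2 j (List.mem_range.2 (by omega))
    rw [← hk, ← hi, ← hj] at h3
    exact h3
  unfold chkP at hck
  simp only [← hmm, ← hc] at hck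
  simp only [Bool.or_eq_true, beq_iff_eq, bne_iff_ne, decide_eq_true_eq, ha1, ha8, hr4, hrp4, hc1, hc8, hm7, false_or] at hck
  -- clear denominators
  have na : (a : ℚ) ≠ 0 := by
    have : a ≠ 0 := by omega
    exact_mod_cast this
  have nc : (c : ℚ) ≠ 0 := by
    have : c ≠ 0 := by omega
    exact_mod_cast this
  have nm : (m : ℚ) ≠ 0 := by
    have : m ≠ 0 := by omega
    exact_mod_cast this
  have nr : (r : ℚ) ≠ 0 := by
    have : r ≠ 0 := by omega
    exact_mod_cast this
  have nrp : (rp : ℚ) ≠ 0 := by
    have : rp ≠ 0 := by omega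
    exact_mod_cast this
  have hZ : g * (a * c * m * r * rp + 2 * c * m * r * rp + a * m * r * rp + 8 * a * c * r * rp + 2 * a * c * m * rp +
      2 * a * c * m * r) = 648 * a * c * m * r * rp := by
    have : ((g * (a * c * m * r * rp + 2 * c * m * r * rp + a * m * r * rp + 8 * a * c * r * rp + 2 * a * c * m * rp +
      2 * a * c * m * r) : ℤ) : ℚ) = ((648 * a * c * m * r * rp : ℤ) : ℚ) := by
      push_cast
      field_simp at heq
      linear_combination heq
    exact_mod_cast this
  set c1 := a * c * m * r * rp + 2 * c * m * r * rp + a * m * r * rp + 8 * a * c * r * rp + 2 * a * c * m * rp +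
      2 * a * c * m * r with hc1'
  have hne : 648 * a * c * m * r * rp ≠ 0 := by
    have h1 : (648 * (a : ℚ) * c * m * r * rp) ≠ 0 := by
      apply mul_ne_zero (mul_ne_zero (mul_ne_zero (mul_ne_zero (mul_ne_zero (by norm_num) na) nc) nm) nr) nrp
    exact_mod_cast h1
  rcases hck with (hck | hck) | hck
  · rw [hck, mul_zero] at hZ
    exact hne hZ.symm
  · apply hck
    rw [← hZ, Int.mul_emod_left]
  · have hc10 : c1 ≠ 0 := by
      intro h; rw [h, mul_zero] at hZ; exact hne hZ.symm
    rw [← hZ, Int.mul_ediv_cancel _ hc10] at hck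
    nlinarith

end Cfsg.Agent.Tri3
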