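import Mathlib

/-!
# A complement of a subgroup of order 9 in its normalizer
-/

set_option autoImplicit false

namespace Cfsg.Agent.Tri3

theorem exists_section {G : Type*} [Group G] [Finite G] (S : Subgroup G) (hcard : Nat.card S = 9)
    (eN : Subgroup.normalizer (S : Set G) ⧸ S.subgroupOf (Subgroup.normalizer (S : Set G)) ≃* DihedralGroup 4) :
    ∃ E : DihedralGroup 4 →* G, (∀ g, E g ∈ Subgroup.normalizer (S : Set G)) ∧
      (∀ h ∈ Subgroup.normalizer (S : Set G), ∃ v ∈ S, ∃ g, h = v * E g) ∧ (∀ g, E g ∈ S → g = 1) := by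
  set H := Subgroup.normalizer (S : Set G) with hH
  have hSH : S ≤ H := Subgroup.le_normalizer
  let N' := S.subgroupOf H
  have hN' : Nat.card N' = 9 := by
    rw [← hcard]; exact Nat.card_congr (Subgroup.subgroupOfEquivOfLe hSH).toEquiv
  have hidx : N'.index = 8 := by
    rw [Subgroup.index_eq_card, Nat.card_congr eN.toEquiv, Nat.card_eq_fintype_card, DihedralGroup.card]
  obtain ⟨K, hK⟩ := Subgroup.exists_right_complement'_of_coprime (N := N') (by rw [hN', hidx]; decide)
  let κ : H ⧸ N' ≃* K := hK.symm.QuotientMulEquiv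
  let E : DihedralGroup 4 →* G := H.subtype.comp (K.subtype.comp (eN.symm.trans κ).toMonoidHom)
  refine ⟨E, fun g => ((((eN.symm.trans κ) g : K) : H)).2, ?_, ?_⟩
  · intro h hh
    obtain ⟨⟨n, k⟩, hnk⟩ := hK.2 ⟨h, hh⟩
    refine ⟨(n : H), n.2, (eN.symm.trans κ).symm k, ?_⟩
    change h = ((n : H) : G) * (((eN.symm.trans κ) ((eN.symm.trans κ).symm k) : K) : H)
    rw [MulEquiv.apply_symm_apply]
    exact (congrArg Subtype.val hnk).symm
  · intro g hg
    have h1 : (((eN.symm.trans κ) g : K) : H) ∈ N' := hg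
    have h2 : (((eN.symm.trans κ) g : K) : H) ∈ N' ⊓ K := ⟨h1, ((eN.symm.trans κ) g).2⟩
    rw [hK.disjoint.eq_bot, Subgroup.mem_bot] at h2
    have h3 : (eN.symm.trans κ) g = 1 := Subtype.ext h2
    exact (MulEquiv.map_eq_one_iff _).1 h3

end Cfsg.Agent.Tri3
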