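import Cfsg.Agent.Tri3.Nine.Link

/-!
# The types of the irreducible characters: multiplicities
-/

set_option autoImplicit false
set_option linter.unusedSectionVars false
set_option maxHeartbeats 1000000

open scoped ComplexConjugate
open Cfsg Cfsg.Agent.CharBase

namespace Cfsg.Agent.Tri3

/-- rows with types -/
structure Typed {G : Type*} [Group G] [Finite G] {H : Subgroup G} (D : D9 H) extends Rows D where
  ty : IrrCharacter G → Fin 16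
  ε : IrrCharacter G → ℤ
  hε : ∀ χ : IrrCharacter G, ε χ = 1 ∨ ε χ = -1
  hty : ∀ (χ : IrrCharacter G) (i : Fin 4), r χ i = ε χ * TT (ty χ) i

section

variable {G : Type*} [Group G] [Finite G] {H : Subgroup G} {D : D9 H}

theorem Rows.exists_typed (R : Rows D) : Nonempty (Typed D) := by
  have := Fintype.ofFinite (IrrCharacter G)
  have h : ∀ χ : IrrCharacter G, ∃ (t : Fin 16) (e : ℤ), (e = 1 ∨ e = -1) ∧ ∀ i, R.r χ i = e * TT t i := by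
    intro χ
    refine row_type (R.r χ) (R.c01 χ) (R.c23 χ) ?_ (R.bessel χ)
    rw [R.r0_eq, R.r2_eq]; omega
  choose ty ε hε hty using h
  exact ⟨{ R with ty := ty, ε := ε, hε := hε, hty := hty }⟩

variable (R : Typed D) [Fintype (IrrCharacter G)]

theorem Typed.εε (χ : IrrCharacter G) : R.ε χ * R.ε χ = 1 := by
  rcases R.hε χ with h | h <;> rw [h] <;> norm_num

/-- signed degree -/
def Typed.sd (χ : IrrCharacter G) : ℤ := R.ε χ * R.d χ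

theorem Typed.sd_ne (χ : IrrCharacter G) : R.sd χ ≠ 0 := by
  unfold Typed.sd
  have := R.dpos χ
  rcases R.hε χ with h | h <;> rw [h] <;> omega

/-- the number of irreducible characters of given type -/
def Typed.N (t : Fin 16) : ℤ := ((Finset.univ.filter (fun χ => R.ty χ = t)).card : ℤ)

theorem Typed.N_nonneg (t : Fin 16) : 0 ≤ R.N t := by unfold Typed.N; positivity

theorem Typed.orthN (i j : Fin 4) : ∑ t, R.N t * (TT t i * TT t j) = if i = j then (spc i : ℤ) else 0 := by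
  rw [← R.toRows.orth i j]
  have e : ∀ χ : IrrCharacter G, R.r χ i * R.r χ j = (fun t => TT t i * TT t j) (R.ty χ) := by
    intro χ
    rw [R.hty, R.hty]
    linear_combination (TT (R.ty χ) i * TT (R.ty χ) j) * R.εε χ
  rw [Finset.sum_congr rfl fun χ _ => e χ, sum_by_type R.ty (fun t => TT t i * TT t j)]
  rfl

omit [Fintype (IrrCharacter G)] in
theorem Typed.type_of_row {χ : IrrCharacter G} {t : Fin 16} {e : ℤ} (he : e = 1 ∨ e = -1) (ht : t ≠ 0)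
    (h : ∀ i, R.r χ i = e * TT t i) : R.ty χ = t ∧ R.ε χ = e := by
  have key : ∀ t t' : Fin 16, t ≠ 0 → ((∀ i, TT t' i = TT t i) → t' = t) ∧ ((∀ i, TT t' i = -TT t i) → False) := by
    decide
  have h1 : ∀ i, R.ε χ * TT (R.ty χ) i = e * TT t i := fun i => by rw [← R.hty, h]
  rcases R.hε χ with h2 | h2 <;> rcases he with h3 | h3 <;> rw [h2, h3] at h1
  · exact ⟨(key t (R.ty χ) ht).1 fun i => by linarith [h1 i], by rw [h2, h3]⟩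
  · exact ((key t (R.ty χ) ht).2 fun i => by linarith [h1 i]).elim
  · exact ((key t (R.ty χ) ht).2 fun i => by linarith [h1 i]).elim
  · exact ⟨(key t (R.ty χ) ht).1 fun i => by linarith [h1 i], by rw [h2, h3]⟩

omit [Fintype (IrrCharacter G)] in
theorem Typed.one_type : R.ty (oneIrr G) = 1 ∧ R.ε (oneIrr G) = 1 := by
  apply R.type_of_row (Or.inl rfl) (by decide)
  intro i
  have h : ((R.r (oneIrr G) i : ℤ) : ℂ) = ((1 : ℤ) : ℂ) := by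
    rw [← R.hr, oneIrr_apply]; simp
  have h' : R.r (oneIrr G) i = 1 := by exact_mod_cast h
  rw [h']
  clear h h'
  revert i; decide

theorem Typed.N_one : 1 ≤ R.N 1 := by
  unfold Typed.N
  have : 0 < (Finset.univ.filter (fun χ => R.ty χ = 1)).card := by
    apply Finset.card_pos.2
    exact ⟨oneIrr G, Finset.mem_filter.2 ⟨Finset.mem_univ _, R.one_type.1⟩⟩
  exact_mod_cast this

theorem Typed.cases :
    (R.N 1 = 1 ∧ R.N 2 = 1 ∧ R.N 3 = 1 ∧ R.N 4 = 1 ∧ R.N 5 = 1 ∧ R.N 6 = 1 ∧ R.N 7 = 1 ∧ R.N 8 = 1 ∧ R.N 9 = 1 ∧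
      R.N 10 = 0 ∧ R.N 11 = 0 ∧ R.N 12 = 0 ∧ R.N 13 = 0 ∧ R.N 14 = 0 ∧ R.N 15 = 0) ∨
    (R.N 1 = 1 ∧ R.N 2 = 1 ∧ R.N 3 = 0 ∧ R.N 4 = 0 ∧ R.N 5 = 1 ∧ R.N 6 = 2 ∧ R.N 7 = 1 ∧ R.N 8 = 0 ∧ R.N 9 = 0 ∧
      R.N 10 = 0 ∧ R.N 11 = 0 ∧ R.N 12 = 0 ∧ R.N 13 = 1 ∧ R.N 14 = 0 ∧ R.N 15 = 1) ∨
    (R.N 1 = 1 ∧ R.N 2 = 0 ∧ R.N 3 = 1 ∧ R.N 4 = 0 ∧ R.N 5 = 1 ∧ R.N 6 = 0 ∧ R.N 7 = 0 ∧ R.N 8 = 2 ∧ R.N 9 = 1 ∧
      R.N 10 = 0 ∧ R.N 11 = 1 ∧ R.N 12 = 0 ∧ R.N 13 = 0 ∧ R.N 14 = 1 ∧ R.N 15 = 0) ∨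
    (R.N 1 = 2 ∧ R.N 2 = 1 ∧ R.N 3 = 1 ∧ R.N 4 = 0 ∧ R.N 5 = 0 ∧ R.N 6 = 1 ∧ R.N 7 = 0 ∧ R.N 8 = 1 ∧ R.N 9 = 0 ∧
      R.N 10 = 0 ∧ R.N 11 = 1 ∧ R.N 12 = 0 ∧ R.N 13 = 1 ∧ R.N 14 = 0 ∧ R.N 15 = 0) ∨
    (R.N 1 = 1 ∧ R.N 2 = 2 ∧ R.N 3 = 0 ∧ R.N 4 = 1 ∧ R.N 5 = 0 ∧ R.N 6 = 1 ∧ R.N 7 = 0 ∧ R.N 8 = 0 ∧ R.N 9 = 1 ∧
      R.N 10 = 1 ∧ R.N 11 = 0 ∧ R.N 12 = 0 ∧ R.N 13 = 1 ∧ R.N 14 = 0 ∧ R.N 15 = 0) ∨
    (R.N 1 = 1 ∧ R.N 2 = 0 ∧ R.N 3 = 2 ∧ R.N 4 = 1 ∧ R.N 5 = 0 ∧ R.N 6 = 0 ∧ R.N 7 = 1 ∧ R.N 8 = 1 ∧ R.N 9 = 0 ∧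
      R.N 10 = 0 ∧ R.N 11 = 1 ∧ R.N 12 = 1 ∧ R.N 13 = 0 ∧ R.N 14 = 0 ∧ R.N 15 = 0) := by
  have h00 := R.orthN 0 0
  have h01 := R.orthN 0 1
  have h02 := R.orthN 0 2
  have h03 := R.orthN 0 3
  have h11 := R.orthN 1 1
  have h12 := R.orthN 1 2
  have h13 := R.orthN 1 3
  have h22 := R.orthN 2 2
  have h23 := R.orthN 2 3
  have h33 := R.orthN 3 3
  rw [sum16] at h00 h01 h02 h03 h11 h12 h13 h22 h23 h33
  simp only [spc, if_true, if_false, Fin.isValue, Fin.reduceEq] at h00 h01 h02 h03 h11 h12 h13 h22 h23 h33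
  simp [TT] at h00 h01 h02 h03 h11 h12 h13 h22 h23 h33
  apply mult_cases (R.N 1) (R.N 2) (R.N 3) (R.N 4) (R.N 5) (R.N 6) (R.N 7) (R.N 8) (R.N 9) (R.N 10) (R.N 11) (R.N 12)
    (R.N 13) (R.N 14) (R.N 15) R.N_one (R.N_nonneg _) (R.N_nonneg _) (R.N_nonneg _) (R.N_nonneg _) (R.N_nonneg _)
    (R.N_nonneg _) (R.N_nonneg _) (R.N_nonneg _) (R.N_nonneg _) (R.N_nonneg _) (R.N_nonneg _) (R.N_nonneg _)
    (R.N_nonneg _) (R.N_nonneg _) <;> linarith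

end

end Cfsg.Agent.Tri3
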